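/-
S5211, `q = 5`: definitions for the sporadic realisers.
-/
import Cfsg.Agent.FUS.G2.Real
import Cfsg.Agent.FUS.G2.P5

set_option autoImplicit false

namespace CL.G2R

open CL.Fus CL.G2F Subgroup Cfsg Cfsg.FusionSystem

instance fact_five : Fact (Nat.Prime 5) := ⟨by norm_num⟩

/-- the Sylow 5-subgroup of `G₂(5)` -/
abbrev U5 : Type := U (ZMod 5)

/-- the extraspecial subgroup of order `5 ^ 5` -/
abbrev Q5 : Subgroup U5 := Q

variable {G : Type*} [Group G]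

/-- an embedding as a Sylow subgroup which fuses the centre out of `A₀` -/
structure Em (ι : U5 →* G) : Prop where
  inj : Function.Injective ι
  idx : ¬ 5 ∣ ι.range.index
  cf : ∃ (g : G) (x : U5), x ∉ sA ∧ g * ι (y3 1) * g⁻¹ = ι x

/-- the automorphisms of `Q` induced by `G` -/
def AG (ι : U5 →* G) : Subgroup (MulAut Q5) where
  carrier := {β | ∃ g : G, ∀ q : Q5, ι (β q) = g * ι q * g⁻¹}
  one_mem' := ⟨1, fun q => by simp⟩
  mul_mem' := by
    rintro β γ ⟨g, hg⟩ ⟨k, hk⟩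
    exact ⟨g * k, fun q => by rw [MulAut.mul_apply, hg, hk]; group⟩
  inv_mem' := by
    rintro β ⟨g, hg⟩
    refine ⟨g⁻¹, fun q => ?_⟩
    have := hg (β⁻¹ q)
    rw [MulAut.apply_inv_self] at this
    rw [this]; group

theorem mem_AG {ι : U5 →* G} {β : MulAut Q5} : β ∈ AG ι ↔ ∃ g : G, ∀ q : Q5, ι (β q) = g * ι q * g⁻¹ := Iff.rfl

/-- the possible orders of `Out_F(Q)` -/
def Cls5 : Prop := ∀ F : FusionSystem (⊤ : Subgroup U5), F.IsSaturated 5 → F.core = ⊥ →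
  Nat.card (XW F) ∈ [480, 640, 1280, 2880, 7680]

/-- a realisable system with `|Out_F(Q)| = n` -/
def Real5 (n : ℕ) : Prop := ∃ E : FusionSystem (⊤ : Subgroup U5), E.IsRealizable 5 ∧ E.IsSaturated 5 ∧ E.core = ⊥ ∧
  Nat.card (XW E) = n

/-- the relations between the root elements `a i = y i 1` -/
structure Rel5 (a1 a2 a3 a4 a5 a6 : G) : Prop where
  p1 : a1 ^ 5 = 1
  p2 : a2 ^ 5 = 1
  p3 : a3 ^ 5 = 1
  p4 : a4 ^ 5 = 1
  p5 : a5 ^ 5 = 1
  p6 : a6 ^ 5 = 1
  r13 : a1 * a3 = a3 * a1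
  r23 : a2 * a3 = a3 * a2
  r43 : a4 * a3 = a3 * a4
  r53 : a5 * a3 = a3 * a5
  r63 : a6 * a3 = a3 * a6
  r15 : a1 * a5 = a3 * a5 * a1
  r25 : a2 * a5 = a5 * a2
  r45 : a4 * a5 = a5 * a4
  r65 : a6 * a5 = a5 * a6
  r14 : a1 * a4 = a4 * a1
  r42 : a4 * a2 = a3 ^ 3 * a2 * a4
  r64 : a6 * a4 = a4 * a5 ^ 3 * a6
  r12 : a1 * a2 = a2 * a1
  r62 : a6 * a2 = a2 * a3 ^ 3 * a4 ^ 2 * a5 ^ 3 * a6
  r61 : a6 * a1 = a1 * a2 * a3 * a4 * a5 * a6

/-- an extraspecial group of order 125 with an automorphism of order 3 -/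
structure Ex3 (a b c y : G) : Prop where
  c1 : c ≠ 1
  ab : a * b = c * (b * a)
  ca : c * a = a * c
  cb : c * b = b * c
  pa : a ^ 5 = 1
  pb : b ^ 5 = 1
  pc : c ^ 5 = 1
  py : y ^ 3 = 1
  yc : y * c = c * y
  ya : y * a = b * y
  yb : ∃ i j k : ℕ, y * b = a ^ i * b ^ j * c ^ k * y

theorem Ex3.map {H : Type*} [Group H] {a b c y : G} (h : Ex3 a b c y) (f : G →* H) (hf : Function.Injective f) :
    Ex3 (f a) (f b) (f c) (f y) where
  c1 := fun e => h.c1 (hf (by rw [e, map_one]))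
  ab := by simpa using congrArg f h.ab
  ca := by simpa using congrArg f h.ca
  cb := by simpa using congrArg f h.cb
  pa := by simpa using congrArg f h.pa
  pb := by simpa using congrArg f h.pb
  pc := by simpa using congrArg f h.pc
  py := by simpa using congrArg f h.py
  yc := by simpa using congrArg f h.yc
  ya := by simpa using congrArg f h.ya
  yb := let ⟨i, j, k, e⟩ := h.yb; ⟨i, j, k, by simpa using congrArg f e⟩

end CL.G2R
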