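/-
S5211, `q = 5`: homomorphisms from `U (ZMod 5)` given by the polycyclic relations.
-/
import Cfsg.Agent.FUS.G2.P5
import Cfsg.Agent.FUS.G2.Real

set_option autoImplicit false
set_option linter.unusedSimpArgs false

namespace CL.G2F.R5

open CL.Fus Subgroup Cfsg

local instance prime5 : Fact (Nat.Prime 5) := ⟨by norm_num⟩

variable {G : Type*} [Group G]

/-- the relations between `y1 1, …, y6 1` -/
structure Rl (a b c d e f : G) : Prop where
  a5 : a ^ 5 = 1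
  b5 : b ^ 5 = 1
  c5 : c ^ 5 = 1
  d5 : d ^ 5 = 1
  e5 : e ^ 5 = 1
  f5 : f ^ 5 = 1
  ba : b * a = a * b
  ca : c * a = a * c
  da : d * a = a * d
  ea : e * a = a * e * c ^ 4
  cb : c * b = b * c
  db : d * b = b * d * c ^ 3
  eb : e * b = b * e
  dc : d * c = c * d
  ec : e * c = c * e
  ed : e * d = d * e
  fa : f * a = a * b * c * d * e * f
  fb : f * b = b * c ^ 3 * d ^ 2 * e ^ 3 * f
  fc : f * c = c * f
  fd : f * d = d * e ^ 3 * f
  fe : f * e = e * f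

/-- the word of an element -/
def wd (a b c d e f : G) (g : U (ZMod 5)) : G :=
  a ^ g.u.val * (b ^ g.s.val * (c ^ g.v.val * (d ^ g.r.val * (e ^ g.w.val * f ^ g.t.val))))

theorem pv_add {x : G} (h : x ^ 5 = 1) (s t : ZMod 5) : x ^ (s + t).val = x ^ s.val * x ^ t.val := by
  rw [← pow_add, ZMod.val_add, ← pow_eq_pow_mod _ h]

theorem pv_mul {x : G} (h : x ^ 5 = 1) (s t : ZMod 5) : x ^ (s * t).val = (x ^ s.val) ^ t.val := by
  rw [← pow_mul, ZMod.val_mul, ← pow_eq_pow_mod _ h]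

theorem mul_pow_cen {x y z : G} (h : x * y = y * x * z) (h1 : Commute z x) (h2 : Commute z y) (k : ℕ) (w : G) :
    x * (y ^ k * w) = y ^ k * (z ^ k * (x * w)) := by
  induction k generalizing w with
  | zero => simp
  | succ k ih =>
    rw [pow_succ, mul_assoc, ih, ← mul_assoc x, h, pow_succ z]
    simp only [mul_assoc]
    rw [((h2.pow_left k).left_comm _ :), (h1.left_comm _ :)]

theorem mem_gens (M : Submonoid (U (ZMod 5))) (h1 : y1 1 ∈ M) (h2 : y2 1 ∈ M) (h3 : y3 1 ∈ M) (h4 : y4 1 ∈ M) (h5 : y5 1 ∈ M)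
    {g : U (ZMod 5)} (h6 : g ∈ Q ∨ y6 1 ∈ M) : g ∈ M := by
  have k : ∀ y : ZMod 5 → U (ZMod 5), y 0 = 1 → (∀ s t, y (s + t) = y s * y t) → y 1 ∈ M → ∀ s, y s ∈ M := fun y h0 h h1 s => by
    rw [← ZMod.natCast_zmod_val s]
    induction s.val with
    | zero => rw [Nat.cast_zero, h0]; exact M.one_mem
    | succ n ih => rw [Nat.cast_succ, h]; exact M.mul_mem ih h1
  rw [eq_prod g]
  refine M.mul_mem (M.mul_mem (M.mul_mem (M.mul_mem (M.mul_mem (k y1 rfl (fun s t => by gus) h1 _)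
    (k y2 rfl (fun s t => by gus) h2 _)) (k y3 rfl (fun s t => by gus) h3 _)) (k y4 rfl (fun s t => by gus) h4 _))
    (k y5 rfl (fun s t => by gus) h5 _)) (h6.elim (fun h => ?_) fun h => k y6 rfl (fun s t => by gus) h _)
  rw [mem_Q.1 h]
  exact M.one_mem

theorem Rl.wd_mul {a b c d e f : G} (h : Rl a b c d e f) (x y : U (ZMod 5)) :
    wd a b c d e f (x * y) = wd a b c d e f x * wd a b c d e f y := by
  have v1 : (1 : ZMod 5).val = 1 := rfl
  have v2 : (2 : ZMod 5).val = 2 := rfl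
  have v3 : (3 : ZMod 5).val = 3 := rfl
  have v4 : (-1 : ZMod 5).val = 4 := rfl
  let M : Submonoid (U (ZMod 5)) :=
    { carrier := {x | ∀ y, wd a b c d e f (x * y) = wd a b c d e f x * wd a b c d e f y}
      one_mem' := fun y => by simp [wd]
      mul_mem' := fun {x x'} hx hx' y => by rw [mul_assoc, hx, hx, hx', mul_assoc] }
  have ba : Commute b a := h.ba
  have ca : Commute c a := h.ca
  have da : Commute d a := h.da
  have cb : Commute c b := h.cb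
  have eb : Commute e b := h.eb
  have dc : Commute d c := h.dc
  have ec : Commute e c := h.ec
  have ed : Commute e d := h.ed
  have m1 : y1 1 ∈ M := fun y => by
    rw [show y1 1 * y = ⟨1 + y.u, y.s, y.v, y.r, y.w, y.t⟩ by gus]
    simp [wd, pv_add h.a5, v1, mul_assoc]
  have m2 : y2 1 ∈ M := fun y => by
    rw [show y2 1 * y = ⟨y.u, 1 + y.s, y.v, y.r, y.w, y.t⟩ by gus]
    simp [wd, pv_add h.b5, v1, mul_assoc, (ba.pow_right _).left_comm]
  have m3 : y3 1 ∈ M := fun y => by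
    rw [show y3 1 * y = ⟨y.u, y.s, 1 + y.v, y.r, y.w, y.t⟩ by gus]
    simp [wd, pv_add h.c5, v1, mul_assoc, (ca.pow_right _).left_comm, (cb.pow_right _).left_comm]
  have m4 : y4 1 ∈ M := fun y => by
    rw [show y4 1 * y = ⟨y.u, y.s, 3 * y.s + y.v, 1 + y.r, y.w, y.t⟩ by gus; ring]
    simp [wd, pv_add h.c5, pv_add h.d5, pv_mul h.c5, v1, v3, mul_assoc, (da.pow_right _).left_comm, (dc.pow_right _).left_comm,
      mul_pow_cen h.db (dc.symm.pow_left 3) (cb.pow_left 3)]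
  have m5 : y5 1 ∈ M := fun y => by
    rw [show y5 1 * y = ⟨y.u, y.s, -1 * y.u + y.v, y.r, 1 + y.w, y.t⟩ by gus; ring]
    simp only [wd, pv_add h.c5, pv_add h.e5, pv_mul h.c5, v1, v4, y5_u, y5_s, y5_v, y5_r, y5_w, y5_t, ZMod.val_zero, pow_zero, one_mul,
      mul_one, pow_one, mul_assoc, mul_pow_cen h.ea (ec.symm.pow_left 4) (ca.pow_left 4), (eb.pow_right _).left_comm,
      (ec.pow_right _).left_comm, (ed.pow_right _).left_comm, (((cb.pow_left 4).pow_left _).pow_right _).left_comm]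
  have hQ : ∀ x ∈ Q, x ∈ M := fun x hx => mem_gens M m1 m2 m3 m4 m5 (.inl hx)
  have cQ : ∀ x ∈ Q (K := ZMod 5), cj (y6 1) x ∈ Q := fun x hx => Normal.conj_mem inferInstance x hx _
  let N : Submonoid (U (ZMod 5)) :=
    { carrier := {x | x ∈ Q ∧ f * wd a b c d e f x = wd a b c d e f (cj (y6 1) x) * f}
      one_mem' := ⟨one_mem _, by simp [cj, wd]⟩
      mul_mem' := fun {x x'} hx hx' => ⟨mul_mem hx.1 hx'.1, by
        rw [hQ x hx.1, show cj (y6 1) (x * x') = cj (y6 1) x * cj (y6 1) x' by simp [cj], hQ _ (cQ x hx.1), ← mul_assoc, hx.2,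
          mul_assoc, hx'.2, mul_assoc]⟩ }
  have hN : ∀ x ∈ Q, x ∈ N := fun x hx => by
    refine mem_gens N ⟨rfl, ?_⟩ ⟨rfl, ?_⟩ ⟨rfl, ?_⟩ ⟨rfl, ?_⟩ ⟨rfl, ?_⟩ (.inl hx)
    · rw [show cj (y6 1) (y1 1) = (⟨1, 1, 1, 1, 1, 0⟩ : U (ZMod 5)) by gus]
      simpa [wd, v1, mul_assoc] using h.fa
    · rw [show cj (y6 1) (y2 1) = (⟨0, 1, 3, 2, 3, 0⟩ : U (ZMod 5)) by gus]
      simpa [wd, v1, v2, v3, mul_assoc] using h.fb
    · rw [show cj (y6 1) (y3 1) = (y3 1 : U (ZMod 5)) by gus]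
      simpa [wd, v1] using h.fc
    · rw [show cj (y6 1) (y4 1) = (⟨0, 0, 0, 1, 3, 0⟩ : U (ZMod 5)) by gus]
      simpa [wd, v1, v3, mul_assoc] using h.fd
    · rw [show cj (y6 1) (y5 1) = (y5 1 : U (ZMod 5)) by gus]
      simpa [wd, v1] using h.fe
  refine mem_gens M m1 m2 m3 m4 m5 (.inr fun y => ?_) y
  have hq : (⟨y.u, y.s, y.v, y.r, y.w, 0⟩ : U (ZMod 5)) ∈ Q := rfl
  have e1 : y = ⟨y.u, y.s, y.v, y.r, y.w, 0⟩ * y6 y.t := by gus
  have e2 : y6 1 * y = cj (y6 1) ⟨y.u, y.s, y.v, y.r, y.w, 0⟩ * y6 (1 + y.t) := by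
    conv_lhs => rw [e1]
    rw [show y6 (1 + y.t) = y6 1 * y6 y.t by gus, cj]
    group
  have e3 : ∀ t, wd a b c d e f (y6 t) = f ^ t.val := fun t => by simp [wd]
  rw [e2, hQ _ (cQ _ hq), e3, e3, pv_add h.f5, v1, pow_one, ← mul_assoc, ← (hN _ hq).2, mul_assoc, ← e3, ← hQ _ hq, ← e1]

/-- the homomorphism -/
def Rl.hom {a b c d e f : G} (h : Rl a b c d e f) : U (ZMod 5) →* G := MonoidHom.mk' (wd a b c d e f) h.wd_mul

theorem Rl.hom_apply {a b c d e f : G} (h : Rl a b c d e f) (g : U (ZMod 5)) : h.hom g = wd a b c d e f g := rfl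

end CL.G2F.R5
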