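/-
S5211, `q = 5`: embeddings of `U5`.
-/
import Cfsg.Agent.FUS.G2R.Defs
import Cfsg.Agent.FUS.G2R.Hom
import Cfsg.Agent.FUS.G2.Aut5
import Cfsg.Agent.PLOC.PNormal

set_option autoImplicit false

namespace CL.G2R

open CL.Fus CL.G2F Subgroup Cfsg Cfsg.FusionSystem
open scoped commutatorElement

variable {G : Type*} [Group G]

instance p5_five : P5 (ZMod 5) := p5_of (p := 5) le_rfl

theorem card_U5 : Nat.card U5 = 5 ^ 6 := by
  have e : U5 ≃ ZMod 5 × ZMod 5 × ZMod 5 × ZMod 5 × ZMod 5 × ZMod 5 :=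
    ⟨fun g => (g.u, g.s, g.v, g.r, g.w, g.t), fun x => ⟨x.1, x.2.1, x.2.2.1, x.2.2.2.1, x.2.2.2.2.1, x.2.2.2.2.2⟩,
      fun _ => rfl, fun _ => rfl⟩
  rw [Nat.card_congr e]
  simp only [Nat.card_prod, Nat.card_zmod]
  norm_num

theorem Rel5.rl {a1 a2 a3 a4 a5 a6 : G} (h : Rel5 a1 a2 a3 a4 a5 a6) : R5.Rl a1 a2 a3 a4 a5 a6 where
  a5 := h.p1
  b5 := h.p2
  c5 := h.p3
  d5 := h.p4
  e5 := h.p5
  f5 := h.p6
  ba := h.r12.symm
  ca := h.r13.symm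
  da := h.r14.symm
  ea := by
    have c1 : Commute a1 a3 := h.r13
    have c5 : Commute a5 a3 := h.r53
    rw [h.r15, mul_assoc a3, ← (c5.mul_left c1).eq, mul_assoc _ a3, ← pow_succ', h.p3, mul_one]
  cb := h.r23.symm
  db := by
    have c2 : Commute a2 a3 := h.r23
    have c4 : Commute a4 a3 := h.r43
    rw [h.r42, mul_assoc, ((c2.mul_left c4).pow_right 3).eq]
  eb := h.r25.symm
  dc := h.r43
  ec := h.r53
  ed := h.r45.symm
  fa := h.r61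
  fb := h.r62
  fc := h.r63
  fd := h.r64
  fe := h.r65

/-- `R5.Rl.hom` -/
theorem Rel5.exists_hom {a1 a2 a3 a4 a5 a6 : G} (h : Rel5 a1 a2 a3 a4 a5 a6) : ∃ ι : U5 →* G,
    ι (y1 1) = a1 ∧ ι (y2 1) = a2 ∧ ι (y3 1) = a3 ∧ ι (y4 1) = a4 ∧ ι (y5 1) = a5 ∧ ι (y6 1) = a6 := by
  have v1 : (1 : ZMod 5).val = 1 := rfl
  refine ⟨h.rl.hom, ?_, ?_, ?_, ?_, ?_, ?_⟩ <;> simp [R5.Rl.hom_apply, R5.wd, v1]

theorem y_pow (y : ZMod 5 → U5) (h0 : y 0 = 1) (h : ∀ s t, y (s + t) = y s * y t) (k : ZMod 5) : y k = y 1 ^ k.val := by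
  conv_lhs => rw [← ZMod.natCast_zmod_val k]
  induction k.val with
  | zero => rw [Nat.cast_zero, h0, pow_zero]
  | succ n ih => rw [Nat.cast_succ, h, ih, pow_succ]

theorem y1_pow (k : ZMod 5) : y1 k = y1 1 ^ k.val := y_pow y1 rfl (fun s t => by gus) k
theorem y2_pow (k : ZMod 5) : y2 k = y2 1 ^ k.val := y_pow y2 rfl (fun s t => by gus) k
theorem y3_pow (k : ZMod 5) : y3 k = y3 1 ^ k.val := y_pow y3 rfl (fun s t => by gus) k
theorem y4_pow (k : ZMod 5) : y4 k = y4 1 ^ k.val := y_pow y4 rfl (fun s t => by gus) k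
theorem y5_pow (k : ZMod 5) : y5 k = y5 1 ^ k.val := y_pow y5 rfl (fun s t => by gus) k
theorem y6_pow (k : ZMod 5) : y6 k = y6 1 ^ k.val := y_pow y6 rfl (fun s t => by gus) k

/-- `eq_prod`, `y i k = y i 1 ^ k.val` -/
theorem hom_apply (ι : U5 →* G) (g : U5) : ι g = ι (y1 1) ^ g.u.val * ι (y2 1) ^ g.s.val * ι (y3 1) ^ g.v.val *
    ι (y4 1) ^ g.r.val * ι (y5 1) ^ g.w.val * ι (y6 1) ^ g.t.val := by
  conv_lhs => rw [eq_prod g, y1_pow, y2_pow, y3_pow, y4_pow, y5_pow, y6_pow]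
  simp only [map_mul, map_pow]

theorem eq_y3 {g : U5} (h : g ∈ sZ) : g = y3 g.v := by
  obtain ⟨a, b, c, d, e⟩ := h
  ext <;> simp [*]

theorem y3_pow' (k : ZMod 5) (n : ℕ) : y3 k ^ n = y3 (n * k) := by
  induction n with
  | zero => rw [pow_zero, Nat.cast_zero, zero_mul]; rfl
  | succ n ih => rw [pow_succ, ih]; gus; push_cast; ring

/-- a non-trivial normal subgroup meets the centre `sZ`, which has order 5 -/
theorem y3_mem {N : Subgroup U5} [N.Normal] (h : N ≠ ⊥) : y3 1 ∈ N := by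
  have := (isPGroup_U (K := ZMod 5) 5).isNilpotent
  obtain ⟨⟨z, hz, hz'⟩, h1⟩ := ne_bot_iff_exists_ne_one.1 (PN.inf_center_ne_bot N h)
  have hZ : z ∈ sZ := Aut5.cZ fun x => mem_bot.2 (commutatorElement_eq_one_iff_mul_comm.2 (mem_center_iff.1 hz' x).symm)
  have h0 : z.v ≠ 0 := fun e => h1 (Subtype.ext ((eq_y3 hZ).trans (by rw [e]; rfl)))
  have := pow_mem hz z.v⁻¹.val
  rwa [eq_y3 hZ, y3_pow', y3_v, ZMod.natCast_zmod_val, inv_mul_cancel₀ h0] at this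

theorem inj_of (ι : U5 →* G) (h : ι (y3 1) ≠ 1) : Function.Injective ι :=
  (MonoidHom.ker_eq_bot_iff ι).1 (by_contra fun k => h (y3_mem k))

theorem idx_of [Finite G] {ι : U5 →* G} (hι : Function.Injective ι) (h : ¬ 5 ^ 7 ∣ Nat.card G) : ¬ 5 ∣ ι.range.index := fun k => h (by
  rw [← ι.range.card_mul_index, ← Nat.card_congr (MonoidHom.ofInjective hι).toEquiv, card_U5, pow_succ 5 6]
  exact Nat.mul_dvd_mul_left _ k)

/-- an element normalising `ι Q` induces an automorphism -/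
theorem exists_AG' {ι : U5 →* G} (hι : Function.Injective ι) {n : G} (h : ∀ q ∈ Q5, ∃ q' ∈ Q5, ι q' = n * ι q * n⁻¹) :
    ∃ β ∈ AG ι, ∀ q : Q5, ι (β q) = n * ι q * n⁻¹ := by
  choose! f hf e using h
  let φ : Q5 →* Q5 := MonoidHom.mk' (fun q => ⟨f q, hf q q.2⟩) fun a b => Subtype.ext (hι (by
    simp only [coe_mul, map_mul, e _ a.2, e _ b.2, e _ (mul_mem a.2 b.2)]
    group))
  have hφ : Function.Injective φ := fun a b k => Subtype.ext (hι (by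
    have := congrArg (fun x : Q5 => ι x) k
    simpa only [φ, MonoidHom.mk'_apply, e _ a.2, e _ b.2, mul_left_inj, mul_right_inj] using this))
  exact ⟨MulEquiv.ofBijective φ (Finite.injective_iff_bijective.1 hφ), ⟨n, fun q => e _ q.2⟩, fun q => e _ q.2⟩

theorem nrm_of {ι : U5 →* G} {n : G} {q1 q2 q4 q5 : U5} (h1 : q1 ∈ Q5) (h2 : q2 ∈ Q5)
    (h4 : q4 ∈ Q5) (h5 : q5 ∈ Q5) (e1 : n * ι (y1 1) = ι q1 * n) (e2 : n * ι (y2 1) = ι q2 * n) (e4 : n * ι (y4 1) = ι q4 * n)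
    (e5 : n * ι (y5 1) = ι q5 * n) : ∀ q ∈ Q5, ∃ q' ∈ Q5, ι q' = n * ι q * n⁻¹ := fun q hq => by
  let M : Subgroup U5 := (Q5.map ι).comap ((MulAut.conj n).toMonoidHom.comp ι)
  have k : ∀ {x q : U5}, q ∈ Q5 → n * ι x = ι q * n → x ∈ M := fun hq e => ⟨_, hq, by simp [e]⟩
  have m3 : y3 1 ∈ M := by
    rw [show (y3 1 : U5) = ⁅(y1 1 : U5), (y5 1 : U5)⁆ by gus]
    exact mul_mem (mul_mem (mul_mem (k h1 e1) (k h5 e5)) (inv_mem (k h1 e1))) (inv_mem (k h5 e5))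
  exact R5.mem_gens M.toSubmonoid (k h1 e1) (k h2 e2) m3 (k h4 e4) (k h5 e5) (.inl hq)

/-- an element conjugating the generators of `Q` into `Q` induces an automorphism -/
theorem exists_AG {ι : U5 →* G} (hι : Function.Injective ι) {n : G} {q1 q2 q4 q5 : U5} (h1 : q1 ∈ Q5) (h2 : q2 ∈ Q5)
    (h4 : q4 ∈ Q5) (h5 : q5 ∈ Q5) (e1 : n * ι (y1 1) = ι q1 * n) (e2 : n * ι (y2 1) = ι q2 * n) (e4 : n * ι (y4 1) = ι q4 * n)
    (e5 : n * ι (y5 1) = ι q5 * n) : ∃ β ∈ AG ι, ∀ q : Q5, ι (β q) = n * ι q * n⁻¹ :=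
  exists_AG' hι (nrm_of h1 h2 h4 h5 e1 e2 e4 e5)

theorem AG_le_comp {H : Type*} [Group H] (ι : U5 →* G) (f : G →* H) : AG ι ≤ AG (f.comp ι) := fun _ ⟨g, hg⟩ =>
  ⟨f g, fun q => by simp only [MonoidHom.comp_apply, hg, map_mul, map_inv]⟩

theorem Em.comp {H : Type*} [Group H] [Finite H] {ι : U5 →* G} (h : Em ι) {f : G →* H} (hf : Function.Injective f)
    (h7 : ¬ 5 ^ 7 ∣ Nat.card H) : Em (f.comp ι) :=
  ⟨hf.comp h.inj, idx_of (hf.comp h.inj) h7,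
    let ⟨g, x, hx, e⟩ := h.cf
    ⟨f g, x, hx, by simp only [MonoidHom.comp_apply, ← e, map_mul, map_inv]⟩⟩

/-- `map_mem` in G2/Aut5 -/
theorem aut_mem_Q (α : MulAut U5) {g : U5} (hg : g ∈ Q5) : α g ∈ Q5 := (map_mem α g).2.2.2.2.1.2 hg

end CL.G2R
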