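/-
S5211, `q = 5`: extension by an outer automorphism.
-/
import Cfsg.Agent.FUS.G2R.Hm

set_option autoImplicit false

namespace CL.G2R

open CL.Fus CL.G2F Subgroup Cfsg Cfsg.FusionSystem
open scoped commutatorElement

variable {G : Type*} [Group G]

/-- Proof.  `H = N ⋊ zpowers α`, `κ = inl ∘ ι` (`Em.comp`-like: `|H| = |N| * orderOf α`, `orderOf α ∣ 4`).  `M = {g | g normalises κ(Q)}`,
`π : M →* MulAut Q5` with range `AG κ`; `AG ι = π (M ⊓ inl.range)` and `M ⊓ inl.range` has index dividing 4 in `M`, so the relative index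
of `AG ι ≤ AG κ` divides 4.  It is not 1: Frattini (`Sylow.normalizer_sup_eq_top`, `κ.range` is a Sylow subgroup of the normal `inl.range`)
gives `g = inl m * inr α` normalising `κ.range`, so `κ(Q)` (`aut_mem_Q`); if its automorphism `β` were in `AG ι`, then
`m α(ι q) m⁻¹ = ι (β q) = k (ι q) k⁻¹` for all `q ∈ Q`. -/
theorem ext_pair {N : Type} [Group N] [Finite N] {ι : U5 →* N} (h : Em ι) (α : MulAut N) (h4 : α ^ 4 = 1)
    (hn : ∃ q ∈ Q5, ¬ IsConj (ι q) (α (ι q))) : ∃ (H : Type) (_ : Group H) (_ : Finite H) (κ : U5 →* H), Em κ ∧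
      (Nat.card (AG κ) = 2 * Nat.card (AG ι) ∨ Nat.card (AG κ) = 4 * Nat.card (AG ι)) := by
  let φ : zpowers α →* MulAut N := (zpowers α).subtype
  have fa : IsOfFinOrder α := isOfFinOrder_iff_pow_eq_one.2 ⟨4, by norm_num, h4⟩
  have : Finite (zpowers α) := fa.finite_zpowers
  have : Finite (N ⋊[φ] zpowers α) := Finite.of_equiv _ SemidirectProduct.equivProd.symm
  have d4 : Nat.card (zpowers α) ∣ 4 := Nat.card_zpowers α ▸ orderOf_dvd_of_pow_eq_one h4
  let κ : U5 →* N ⋊[φ] zpowers α := SemidirectProduct.inl.comp ι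
  have fU : Finite U5 := Finite.of_injective ι h.inj
  refine ⟨N ⋊[φ] zpowers α, inferInstance, this, κ, ⟨SemidirectProduct.inl_injective.comp h.inj, ?_, ?_⟩, ?_⟩
  · rw [MonoidHom.range_comp, index_map_of_injective _ SemidirectProduct.inl_injective,
      SemidirectProduct.range_inl_eq_ker_rightHom, index_ker]
    intro d
    rcases (Nat.Prime.dvd_mul (by norm_num)).1 d with d | d
    · exact h.idx d
    · exact absurd ((d.trans (card_subgroup_dvd_card _)).trans d4) (by norm_num)
  · obtain ⟨g, x, hx, e⟩ := h.cf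
    exact ⟨.inl g, x, hx, by simp only [κ, MonoidHom.comp_apply, ← map_inv, ← map_mul, e]⟩
  let R : Subgroup ((N ⋊[φ] zpowers α) × MulAut Q5) :=
    { carrier := {x | ∀ q : Q5, κ (x.2 q) = x.1 * κ q * x.1⁻¹}
      one_mem' := fun q => by simp
      mul_mem' := fun {x y} hx hy q => by
        rw [Prod.snd_mul, Prod.fst_mul, MulAut.mul_apply, hx, hy]; group
      inv_mem' := fun {x} hx q => by
        have := hx (x.2⁻¹ q)
        rw [MulAut.apply_inv_self] at this
        rw [Prod.snd_inv, Prod.fst_inv, this]; group }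
  let ρ : R →* zpowers α := SemidirectProduct.rightHom.comp ((MonoidHom.fst _ _).comp R.subtype)
  let σ : R →* MulAut Q5 := (MonoidHom.snd _ _).comp R.subtype
  have e1 : map σ ⊤ = AG κ := by
    ext β
    exact ⟨fun ⟨x, _, e⟩ => e ▸ ⟨x.1.1, x.2⟩, fun ⟨g, e⟩ => ⟨⟨(g, β), e⟩, trivial, rfl⟩⟩
  have e2 : map σ ρ.ker = AG ι := by
    ext β
    refine ⟨fun ⟨x, hx, e⟩ => e ▸ ?_, fun ⟨g, e⟩ => ⟨⟨(.inl g, β), fun q => ?_⟩, ?_, rfl⟩⟩
    · obtain ⟨g, hg⟩ : x.1.1 ∈ (SemidirectProduct.inl : N →* N ⋊[φ] zpowers α).range := by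
        rw [SemidirectProduct.range_inl_eq_ker_rightHom]; exact hx
      refine ⟨g, fun q => SemidirectProduct.inl_injective (φ := φ) ?_⟩
      rw [map_mul, map_mul, map_inv, hg]
      exact x.2 q
    · simp only [κ, MonoidHom.comp_apply, ← map_inv, ← map_mul, e]
    · exact SemidirectProduct.rightHom_inl (φ := φ) g
  have le : AG ι ≤ AG κ := AG_le_comp ι _
  have dv : (AG ι).relIndex (AG κ) ∣ 4 := by
    rw [← e1, ← e2, relIndex_map_map, top_sup_eq, relIndex_top_right]
    exact ((index_dvd_of_le le_sup_left).trans (index_ker ρ ▸ card_subgroup_dvd_card _)).trans d4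
  have ne : (AG ι).relIndex (AG κ) ≠ 1 := fun e => by
    obtain ⟨q, hq, n⟩ := hn
    have p5 : IsPGroup 5 ι.range := (IsPGroup.of_card card_U5).of_surjective _ ι.rangeRestrict_surjective
    obtain ⟨m, hm⟩ := MulAction.exists_smul_eq N (α • p5.toSylow h.idx) (p5.toSylow h.idx)
    have k : ∀ u, ((MulAut.conj m * α).toMonoidHom.comp ι) u ∈ ι.range := fun u => by
      have : (MulAut.conj m * α) • ι u ∈ ((m • α • p5.toSylow h.idx : Sylow 5 N) : Subgroup N) := by
        rw [Sylow.smul_def, ← mul_smul, Sylow.pointwise_smul_def]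
        exact smul_mem_pointwise_smul _ _ _ ⟨u, rfl⟩
      rwa [hm] at this
    let f : U5 →* U5 := (MonoidHom.ofInjective h.inj).symm.toMonoidHom.comp (MonoidHom.codRestrict _ _ k)
    have hf : ∀ u, ι (f u) = m * α (ι u) * m⁻¹ := fun u =>
      MonoidHom.apply_ofInjective_symm h.inj (MonoidHom.codRestrict _ _ k u)
    have fi : Function.Injective f := fun u v e => h.inj (α.injective (by
      have := (hf u).symm.trans ((congrArg ι e).trans (hf v)); simpa using this))
    let γ : MulAut U5 := MulEquiv.ofBijective f (Finite.injective_iff_bijective.1 fi)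
    let β : MulAut Q5 :=
      { toFun := fun q => ⟨γ q, aut_mem_Q γ q.2⟩
        invFun := fun q => ⟨γ⁻¹ q, aut_mem_Q γ⁻¹ q.2⟩
        left_inv := fun q => Subtype.ext (MulAut.inv_apply_self _ γ _)
        right_inv := fun q => Subtype.ext (MulAut.apply_inv_self _ γ _)
        map_mul' := fun x y => Subtype.ext (map_mul γ _ _) }
    have b : β ∈ AG κ := ⟨.inl m * .inr ⟨α, mem_zpowers α⟩, fun q => by
      change SemidirectProduct.inl (ι (f q)) = _
      rw [hf, map_mul, map_mul, map_inv, show α (ι q) = φ ⟨α, mem_zpowers α⟩ (ι q) from rfl, SemidirectProduct.inl_aut,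
        map_inv]
      simp only [κ, MonoidHom.comp_apply]; group⟩
    obtain ⟨g, hg⟩ := relIndex_eq_one.1 e b
    have := (hg ⟨q, hq⟩).symm.trans (hf q)
    exact n (isConj_iff.2 ⟨m⁻¹ * g, by
      calc _ = m⁻¹ * (g * ι q * g⁻¹) * m := by group
        _ = _ := by rw [this]; group⟩)
  have c : (AG ι).relIndex (AG κ) * Nat.card (AG ι) = Nat.card (AG κ) := by
    rw [← Nat.card_congr (subgroupOfEquivOfLe le).toEquiv]; exact index_mul_card _
  have : (AG ι).relIndex (AG κ) ∈ Nat.divisors 4 := Nat.mem_divisors.2 ⟨dv, by norm_num⟩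
  rw [show Nat.divisors 4 = {1, 2, 4} from rfl] at this
  simp only [Finset.mem_insert, Finset.mem_singleton] at this
  rcases this with e | e | e
  exacts [absurd e ne, .inl (by rw [← c, e]), .inr (by rw [← c, e])]

end CL.G2R
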