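/-
S5211, `q = 5`: the Harada-Norton group (h76).
-/
import Cfsg.Agent.FUS.G2R.Hm
import Cfsg.Agent.SPOR.HNAut
import Cfsg.Agent.SPOR.HU.Mx

set_option autoImplicit false
set_option maxRecDepth 100000

namespace CL.G2R

open CL.Fus CL.G2F Subgroup Cfsg Cfsg.FusionSystem
open scoped commutatorElement

variable {G : Type*} [Group G]

namespace HNx
open CL.CE CL.K CL.Net CL.MR CL.HU CL.HN Cfsg.Spor

/-- the trace of a coded matrix -/
noncomputable def trC (c : ℕ) : ℕ := Nat.mod (sumLt (fun i => fld 26 67108863 c (Nat.add (Nat.mul 133 i) i)) 133) 11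

theorem trC_eq (x : HN) : trC (mc x) = (ρ x).1.trace.val := by
  have : sumLt (fun i => fld 26 67108863 (mc x) (Nat.add (Nat.mul 133 i) i)) 133 = ∑ i : Fin 133, ((ρ x).1 i i).val := by
    rw [sumLt_eq, Finset.sum_range]
    exact Finset.sum_congr rfl fun i _ => (okM.fld_code _ i.2 i.2).trans (PM.entry_fin _ i i)
  rw [trC, this]
  refine (ZMod.val_natCast 11 _).symm.trans (congrArg _ ?_)
  generalize (ρ x).1 = A
  rw [Nat.cast_sum]
  exact Finset.sum_congr rfl fun i _ => ZMod.natCast_zmod_val _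

theorem trC_conj {x y : HN} (h : IsConj x y) : trC (mc x) = trC (mc y) := by
  obtain ⟨k, rfl⟩ := isConj_iff.1 h
  rw [trC_eq, trC_eq, map_mul, map_mul, map_inv, Units.val_mul, Units.val_mul, Matrix.trace_mul_cycle, Units.inv_mul, one_mul]

def D : List (List ℕ) := [[0, 2, 1, 2, 2], [7, 5, 5], [4, 3, 4, 3, 3, 4, 6, 4, 3, 4, 6, 6, 4, 3, 3, 4, 6, 4, 2, 4, 2, 2, 4, 2, 2, 1], [0, 0, 6, 4, 6, 3, 3, 4, 3, 3, 4, 2, 4, 6, 4, 2, 4, 2, 2], [8, 9, 9, 9, 9, 8, 8, 8, 8, 9, 8, 8, 8, 8, 9, 9, 9, 9, 8, 9], [8, 9, 9, 8, 9, 8, 8, 9, 9, 9, 9, 8, 9, 9, 9], [9, 12, 12, 9, 9, 9, 9, 12, 12, 12], [8, 8, 9, 8, 8, 9, 9, 9, 12, 12, 8, 9]]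

/-- further letters -/
noncomputable def Gx : ℕ → HN := xt D g 7

theorem Gx_lt : ∀ a < 7, Gx a = g a := fun _ h => xt_lt h
theorem Gx_defs : Defs Gx 7 D := xt_defs g (by decide +kernel)

def prog : List (ℕ × ℕ × ℕ) := [(2, 2, 99), (2, 0, 99), (4, 0, 99), (3, 0, 0), (9, 9, 99), (1, 0, 1), (10, 9, 99), (0, 0, 99), (12, 7, 99), (0, 0, 99), (0, 11, 99), (13, 0, 99), (16, 0, 99), (19, 0, 99), (18, 0, 99), (18, 0, 99), (9, 0, 99), (23, 0, 99), (24, 0, 99), (23, 0, 99), (13, 0, 99), (27, 0, 99), (26, 0, 99), (26, 0, 99), (16, 0, 2), (28, 29, 99), (29, 0, 99), (0, 0, 99), (30, 19, 99), (33, 0, 99), (36, 0, 99), (35, 0, 99), (34, 0, 99), (5, 0, 99), (40, 0, 99), (39, 0, 99), (42, 0, 99), (37, 0, 99), (38, 0, 3), (33, 33, 99), (0, 0, 99), (16, 0, 99), (0, 0, 99), (18, 18, 99), (0, 0, 99), (39, 20, 99), (1, 0, 99), (4, 0, 99), (23, 0, 99), (24, 0, 99), (25, 0, 99), (45, 0, 4), (5, 8, 99), (13, 0,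 99), (8, 0, 99), (11, 0, 99), (50, 0, 5), (0, 0, 99), (1, 0, 99), (14, 0, 99), (3, 0, 99), (4, 0, 99), (37, 0, 6), (57, 17, 99), (0, 0, 99), (7, 19, 99), (22, 0, 99), (2, 0, 7), (62, 16, 99), (17, 63, 99), (2, 18, 99), (19, 3, 99), (15, 20, 99), (21, 16, 99), (11, 22, 99), (23, 12, 99), (51, 24, 99), (25, 52, 99), (72, 15, 99), (3, 73, 99), (12, 17, 99), (18, 13, 99), (25, 19, 99), (20, 26, 99), (59, 21, 99), (22, 60, 99), (80, 29, 99), (30, 81, 99), (31, 20, 99), (17, 32, 99), (38, 0, 99), (39, 0, 99), (67, 35, 99), (30, 7, 99), (11, 0, 99), (89, 27, 99), (28, 90, 99), (72, 29, 99), (24, 3, 99), (47, 0, 99), (29, 0, 99), (76, 95, 99), (28, 16, 99), (7, 0, 99), (98, 63, 99), (37, 37, 99), (0, 0, 99), (39, 0, 99), (56, 56, 99), (0, 0, 99), (58, 0, 99), (53, 52, 99), (49, 49, 99), (0, 0, 99), (51, 0, 99), (90, 70, 99), (77, 64, 99), (92, 78, 99), (113, 113, 99), (115, 0, 99)]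
def es : List (ℕ × ℕ) := [(51, 50), (49, 48), (47, 46), (45, 44), (43, 42), (41, 40), (39, 38), (37, 36), (35, 34), (33, 32), (31, 28), (27, 25), (24, 23), (22, 19), (18, 16), (15, 99999), (12, 99999), (9, 99999), (8, 99999), (5, 99999), (4, 99999), (3, 2)]
def E : List (List ℕ × List ℕ) := [([8, 11], [11, 8]), ([14, 11], [11, 14]), ([12, 11], [11, 12]), ([13, 11], [11, 13]), ([9, 11], [11, 9]), ([8, 13], [11, 13, 8]), ([14, 13], [13, 14]), ([12, 13], [13, 12]), ([9, 13], [13, 9]), ([8, 12], [12, 8]), ([12, 14], [11, 11, 11, 14, 12]), ([9, 12], [12, 13, 13, 13, 9]), ([8, 14], [14, 8]), ([9, 14], [14, 11, 11, 11, 12, 12, 13, 13, 13, 9]), ([9, 8], [8, 14, 11, 12, 13, 9]), ([8, 8, 8, 8, 8], []), ([14, 14, 14, 14, 14], []), ([11, 11, 11, 11, 11], []), ([12, 12, 12, 12, 12], []), ([13, 13, 13, 13, 13], []), ([9, 9, 9, 9, 9], []), ([10, 11], [9, 10])]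

theorem calc0 : run mulM oneM (prog.map fun s => (s.1, s.2.1))
    (fun r => fin oneM es [68] r && !Nat.beq (trC (r.getD 114 oneM)) (trC (r.getD 0 oneM))) cs = true := by decide +kernel

theorem facts : (∀ p ∈ E, ev Gx p.1 = ev Gx p.2) ∧ Gx 11 ≠ 1 ∧ ¬ IsConj (Gx 8) (ev Gx [7, 5, 5, 5, 5]) := by
  have h0 : Rg mc Gx cs (ltrs 7) := by
    refine List.forall₂_iff_get.2 ⟨rfl, fun a h1 h2 => ?_⟩
    have h3 : a < 7 := h1
    have h4 : mc (Gx a) = cs.getD a oneM := by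
      rw [Gx_lt a h3, mc, ρ_apply a h3, ← (ltrsM.mem a).code_elt]
      interval_cases a <;> exact congrArg φM (ev_singleton _ _)
    simpa [ltrs, ev_singleton, List.getElem?_eq_getElem h1] using h4
  obtain ⟨r, h1, h2⟩ := runN_spec codeH Gx_defs h0 calc0
  simp only [fin, Bool.and_eq_true, List.all_eq_true, Nat.beq_eq, Bool.not_eq_true'] at h2
  have hE : eqsB (runN 7 D prog (ltrs 7)) es E = true := by decide +kernel
  have w : (runN 7 D prog (ltrs 7)).getD 68 [] = [11] ∧ (runN 7 D prog (ltrs 7)).getD 114 [] = [8] ∧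
      (runN 7 D prog (ltrs 7)).getD 0 [] = [7, 5, 5, 5, 5] := by decide +kernel
  refine ⟨fun p hp => ?_, fun e => ?_, fun e => ?_⟩
  · obtain ⟨e, he, h3⟩ := List.any_eq_true.1 (List.all_eq_true.1 hE p hp)
    rw [Bool.and_eq_true] at h3
    rw [eq_of_leq h3.1, eq_of_leq h3.2]
    exact codeH.inj (by rw [h1.getD codeH, h1.getD codeH, h2.1.1 e he])
  · refine Nat.ne_of_beq_eq_false (h2.1.2 68 (by simp)) ?_
    rw [← h1.getD codeH, w.1, ev_singleton, e, codeH.map_one]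
  · refine Nat.ne_of_beq_eq_false h2.2 ?_
    rw [← h1.getD codeH, ← h1.getD codeH, w.2.1, w.2.2, ev_singleton, trC_conj e]

theorem exists_τ : ∃ α : MulAut HN, α ^ 4 = 1 ∧ α (Gx 8) = ev Gx [7, 5, 5, 5, 5] := by
  obtain ⟨τ, hτ⟩ := cox_hom (edges := HN.edges) (extra := HN.extra) (gens := gens) (ivl := ivl) code
    (by decide +kernel) (((presG0.append_rep faithful.2 ρ_apply Aut.m1.1 (by decide +kernel)).append_rep
      faithful.2 ρ_apply Aut.m2.1 (by decide +kernel)).subst (Rels' := Rels0)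
      (ws := [[0], [1], [2], [3], [4, 0, 0], [5, 5], [6, 6]]) (by decide +kernel)) (by decide +kernel)
  have t0 : τ (g 0) = ev g [0] := hτ 0 (by decide)
  have t1 : τ (g 1) = ev g [1] := hτ 1 (by decide)
  have t2 : τ (g 2) = ev g [2] := hτ 2 (by decide)
  have t4 : τ (g 4) = ev g [4, 0, 0] := hτ 4 (by decide)
  have t5 : τ (g 5) = ev g [5, 5] := hτ 5 (by decide)
  have r0 := presG.eq_one (w := [0, 0, 0, 0]) (by decide +kernel)
  have r5 := presG.eq_one (w := [5, 5, 5, 5, 5]) (by decide +kernel)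
  simp only [ev_cons, ev_nil, mul_one] at t0 t1 t2 t4 t5 r0 r5
  have top : ∀ L : Subgroup HN, g 0 ∈ L → g 2 ∈ L → g 4 ∈ L → g 5 ∈ L → L = ⊤ :=
    fun L h0 h2 h4 h5 => eq_top_iff.2 (gen_top.ge.trans (gen_le_iff.2 (by
      simpa only [gw, List.forall_mem_cons, ev_singleton, List.not_mem_nil, false_imp_iff, implies_true, and_true] using
        ⟨h0, h2, h4, h5⟩)))
  have q0 : τ (τ (τ (τ (g 0)))) = g 0 := by rw [t0, t0, t0, t0]
  have q2 : τ (τ (τ (τ (g 2)))) = g 2 := by rw [t2, t2, t2, t2]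
  have q4 : τ (τ (τ (τ (g 4)))) = g 4 := by
    have : τ (τ (g 4)) = g 4 := by
      simp only [map_mul, t0, t4, mul_assoc, r0, mul_one]
    rw [this, this]
  have q5 : τ (τ (τ (τ (g 5)))) = g 5 := by
    have a5 : g 5 ^ 5 = 1 := by simpa only [pow_succ', pow_zero, mul_one] using r5
    have a2 : τ (g 5) = g 5 ^ 2 := by rw [t5, sq]
    simp only [a2, map_pow, ← pow_mul]
    rw [show 2 * 2 * 2 * 2 = 5 * 3 + 1 from rfl, pow_succ, pow_mul, a5, one_pow, one_mul]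
  have h4 : ∀ k, τ (τ (τ (τ k))) = k := fun k =>
    (top ((τ.comp (τ.comp (τ.comp τ))).eqLocus (MonoidHom.id _)) q0 q2 q4 q5).ge (mem_top k)
  refine ⟨⟨⟨τ, fun k => τ (τ (τ k)), h4, h4⟩, τ.map_mul⟩, MulEquiv.ext h4, ?_⟩
  have e7 : Gx 7 = ev Gx [0, 2, 1, 2, 2] := Gx_defs 0 (by decide)
  have e8 : Gx 8 = ev Gx [7, 5, 5] := Gx_defs 1 (by decide)
  show τ _ = _
  simp only [e8, ev_cons, ev_nil, e7, Gx_lt 0 (by decide), Gx_lt 1 (by decide), Gx_lt 2 (by decide), Gx_lt 5 (by decide), map_mul,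
    map_one, t0, t1, t2, t5, mul_assoc]

end HNx

open HNx CL.CE in

theorem exists_HN : ∃ ι : U5 →* Spor.HN, Em ι ∧ ∃ α : MulAut Spor.HN, α ^ 4 = 1 ∧ ∃ q ∈ Q5, ¬ IsConj (ι q) (α (ι q)) := by
  obtain ⟨h1, h2, h3⟩ := facts
  simp only [E, List.forall_mem_cons, ev_cons, ev_nil, mul_one, List.not_mem_nil, false_imp_iff, implies_true, and_true] at h1
  obtain ⟨r13, r23, r43, r53, r63, r15, r25, r45, r65, r14, r42, r64, r12, r62, r61, p1, p2, p3, p4, p5, p6, cf⟩ := h1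
  have R : Rel5 (Gx 8) (Gx 14) (Gx 11) (Gx 12) (Gx 13) (Gx 9) := by
    constructor <;> simpa only [pow_succ', pow_zero, mul_one, mul_assoc]
  obtain ⟨ι, e1, -, e3, -, -, e6⟩ := R.exists_hom
  have inj := inj_of ι (e3 ▸ h2)
  obtain ⟨α, a1, a2⟩ := exists_τ
  refine ⟨ι, ⟨inj, idx_of inj (by rw [HN.card]; norm_num), Gx 10, y6 1, fun k => one_ne_zero k.2.2, by
    rw [e3, e6, cf, mul_inv_cancel_right]⟩, α, a1, y1 1, rfl, by rwa [e1, a2]⟩

end CL.G2R
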