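/-
S5211, `q = 5`: equations in the Lyons group.
-/
import Cfsg.Agent.SPOR.Ly

set_option autoImplicit false
set_option Elab.async false
set_option maxRecDepth 100000

namespace CL.G2R.LyM

open CL.K CL.CG CL.MR CL.CE CL.Net CL.Ly Cfsg

/-- the code -/
noncomputable abbrev mc : Spor.Ly → ℕ := fun t => φM (ρ t)

theorem codeL : IsCode mc mulM oneM := codeM.comp ρ faithful.2

theorem rg : Rg mc g cs (ltrs 21) := by
  refine List.forall₂_iff_get.2 ⟨rfl, fun a h1 h2 => ?_⟩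
  have h3 : a < 21 := h1
  have h4 : mc (g a) = cs.getD a oneM := by
    rw [mc, ρ_apply a (by omega), ← (ltrsM.mem a).code_elt]
    interval_cases a <;> exact congrArg φM (ev_singleton _ _)
  simpa [ltrs, ev_singleton, List.getElem?_eq_getElem h1] using h4

/-- the words of the new letters -/
def W : List (List ℕ) := [[],[9,11,11,13],[10],[18,18],[14,15,17,17],[9,9,14,16,18,18],[2],[0,2,1,3],[0,0,3,19,2,19],[19,8]]

/-- the new letters -/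
noncomputable def X : ℕ → Spor.Ly := subst g W

/-- the pairs of words occur in the registers -/
noncomputable def eqB (ws : List (List ℕ)) (es : List (ℕ × ℕ)) (E : List (List ℕ × List ℕ)) : Bool :=
  E.all fun p => es.any fun e => leq (substW W p.1) (ws.getD e.1 []) && leq (substW W p.2) (ws.getD e.2 [])

/-- equal and different registers -/
noncomputable def fin2 (es ns : List (ℕ × ℕ)) (r : List ℕ) : Bool :=
  (es.all fun e => Nat.beq (r.getD e.1 oneM) (r.getD e.2 oneM)) && ns.all fun e => !Nat.beq (r.getD e.1 oneM) (r.getD e.2 oneM)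

theorem eqs {prog es ns : List (ℕ × ℕ)} (hc : run mulM oneM prog (fin2 es ns) cs = true) {E N : List (List ℕ × List ℕ)}
    (hE : (eqB (runW prog (ltrs 21)) es E && eqB (runW prog (ltrs 21)) ns N) = true) :
    (∀ p ∈ E, ev X p.1 = ev X p.2) ∧ ∀ p ∈ N, ev X p.1 ≠ ev X p.2 := by
  obtain ⟨r, h1, h2⟩ := run_spec codeL rg hc
  simp only [fin2, Bool.and_eq_true, List.all_eq_true, Nat.beq_eq, Bool.not_eq_true'] at h2
  simp only [eqB, Bool.and_eq_true, List.all_eq_true, List.any_eq_true] at hE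
  refine ⟨fun p hp => ?_, fun p hp k => ?_⟩
  · obtain ⟨e, he, h3, h4⟩ := hE.1 p hp
    rw [X, ← ev_substW, ← ev_substW, eq_of_leq h3, eq_of_leq h4]
    exact codeL.inj (by rw [h1.getD codeL, h1.getD codeL, h2.1 e he])
  · obtain ⟨e, he, h3, h4⟩ := hE.2 p hp
    rw [X, ← ev_substW, ← ev_substW, eq_of_leq h3, eq_of_leq h4] at k
    exact Nat.ne_of_beq_eq_false (h2.2 e he) (by rw [← h1.getD codeL, ← h1.getD codeL, k])

theorem k1 : (∀ p ∈ ([([1,1,1,1,1],[]),([2,2,2,2,2],[]),([3,3,3,3,3],[]),([4,4,4,4,4],[]),([5,5,5,5,5],[]),([6,6,6,6,6],[]),([1,3],[3,1]),([2,3],[3,2]),([4,3],[3,4]),([5,3],[3,5]),([6,3],[3,6]),([1,5],[3,5,1]),([2,5],[5,2]),([4,5],[5,4])] : List (List ℕ × List ℕ)), ev X p.1 = ev X p.2) ∧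
    ∀ p ∈ ([([3],[])] : List (List ℕ × List ℕ)), ev X p.1 ≠ ev X p.2 :=
  eqs (prog := [(11,11),(10,0),(0,15),(0,0),(0,0),(0,2),(16,16),(0,0),(0,18),(27,27),(0,0),(0,0),(0,2),(27,28),(31,31),(1,0),(0,0),(0,0),(0,2),(28,28),(0,34),(0,37),(0,12),(0,0),(0,0),(0,2),(28,28),(0,0),(0,30),(26,19),(20,27),(41,21),(22,42),(17,23),(24,18),(12,25),(26,13),(39,27),(28,40),(36,16),(3,37),(51,18),(19,52),(27,20),(21,28)])
    (es := [(39,99999),(36,99999),(32,99999),(26,99999),(19,99999),(16,99999),(15,14),(13,12),(11,10),(9,8),(7,6),(5,4),(3,2),(1,0)]) (ns := [(35,99999)]) (by decide +kernel) (by decide +kernel)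

theorem k2 : (∀ p ∈ ([([6,5],[5,6]),([1,4],[4,1]),([4,2],[3,3,3,2,4]),([6,4],[4,5,5,5,6]),([1,2],[2,1]),([6,2],[2,3,3,3,4,4,5,5,5,6]),([6,1],[1,2,3,4,5,6]),([9,3],[2,2,9])] : List (List ℕ × List ℕ)), ev X p.1 = ev X p.2) ∧
    ∀ p ∈ ([] : List (List ℕ × List ℕ)), ev X p.1 ≠ ev X p.2 :=
  eqs (prog := [(9,9),(0,15),(0,18),(21,21),(1,0),(7,0),(1,8),(18,18),(17,0),(0,22),(24,25),(28,28),(1,0),(3,0),(1,4),(2,25),(12,12),(0,13),(0,28),(0,6),(22,7),(16,16),(0,17),(10,0),(0,26),(15,35),(36,16),(29,37),(38,10),(16,16),(1,0),(0,8),(0,34),(35,23),(8,30),(0,22),(0,31),(0,39),(57,46),(0,35),(50,50),(0,2)])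
    (es := [(36,35),(28,27),(26,22),(21,17),(16,15),(14,9),(8,4),(2,0)]) (ns := []) (by decide +kernel) (by decide +kernel)

theorem k3 : (∀ p ∈ ([([7,1],[1,1,1,2,3,3,3,3,4,4,4,5,5,5,7]),([7,2],[1,1,1,1,2,2,3,3,3,3,4,4,7]),([7,4],[1,1,2,2,2,2,3,3,3,3,4,5,7]),([7,5],[1,1,2,2,4,4,7])] : List (List ℕ × List ℕ)), ev X p.1 = ev X p.2) ∧
    ∀ p ∈ ([] : List (List ℕ × List ℕ)), ev X p.1 ≠ ev X p.2 :=
  eqs (prog := [(0,2),(0,2),(0,5),(14,14),(13,0),(0,18),(3,0),(1,1),(0,2),(0,19),(28,28),(0,0),(0,0),(3,0),(28,29),(32,32),(1,0),(0,0),(0,1),(5,0),(29,29),(0,35),(0,38),(0,12),(0,0),(0,1),(6,0),(0,24),(25,38),(21,21),(40,40),(1,0),(0,19),(0,15),(0,31),(32,18),(5,5),(29,0),(0,25),(0,22),(0,16),(0,38),(39,18),(35,12),(0,26),(0,42)])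
    (es := [(39,18),(17,11),(10,4),(3,0)]) (ns := []) (by decide +kernel) (by decide +kernel)

theorem k4 : (∀ p ∈ ([([8,1],[1,1,3,4,4,4,5,8]),([8,2],[2,2,2,2,3,3,4,4,5,5,8]),([8,4],[1,1,1,2,3,3,3,3,4,4,4,4,5,5,8]),([8,5],[1,1,1,2,2,2,3,3,3,3,4,5,8])] : List (List ℕ × List ℕ)), ev X p.1 = ev X p.2) ∧
    ∀ p ∈ ([] : List (List ℕ × List ℕ)), ev X p.1 ≠ ev X p.2 :=
  eqs (prog := [(0,0),(0,4),(0,21),(0,5),(0,23),(16,16),(15,0),(0,20),(3,0),(1,1),(28,28),(1,0),(26,27),(30,30),(1,0),(0,0),(0,1),(5,0),(27,27),(0,33),(0,36),(0,10),(4,0),(0,18),(19,34),(35,35),(0,0),(16,16),(1,0),(0,13),(8,8),(1,0),(0,27),(28,18),(24,26),(0,45),(8,8),(1,0),(22,22),(1,0),(0,9),(0,36),(37,20),(17,53),(9,0),(0,8),(0,31),(0,25),(0,43)])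
    (es := [(40,25),(24,16),(15,7),(6,0)]) (ns := []) (by decide +kernel) (by decide +kernel)

theorem k5 : (∀ p ∈ ([([7,7,7],[]),([8,8,8],[]),([7,8],[8,7])] : List (List ℕ × List ℕ)), ev X p.1 = ev X p.2) ∧
    ∀ p ∈ ([([7,1],[1,7]),([8,1],[1,8]),([7,8,1],[1,7,8]),([7,7,8,1],[1,7,7,8])] : List (List ℕ × List ℕ)), ev X p.1 ≠ ev X p.2 :=
  eqs (prog := [(0,2),(0,2),(0,5),(0,0),(0,1),(5,5),(0,9),(0,26),(0,10),(0,28),(0,0),(0,1),(9,2),(3,10),(25,25),(24,0),(0,29),(14,0),(1,15),(9,2),(3,10),(8,4),(3,12),(19,13),(0,7),(8,21),(0,16)])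
    (es := [(22,99999),(15,99999),(14,13)]) (ns := [(9,8),(7,6),(5,4),(2,0)]) (by decide +kernel) (by decide +kernel)

end CL.G2R.LyM
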