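/-
S5211, `q = 5`: the Lyons group.
-/
import Cfsg.Agent.FUS.G2R.Hm
import Cfsg.Agent.SPOR.Ly
import Cfsg.Agent.FUS.G2R.LyM

set_option autoImplicit false

namespace CL.G2R

open CL.Fus CL.G2F Subgroup Cfsg Cfsg.FusionSystem
open scoped commutatorElement

variable {G : Type*} [Group G]

namespace LyM

theorem tri {b x : G} (h : b ^ 3 = 1) (hx : x ∈ zpowers b) : x = 1 ∨ x = b ∨ x = b * b := by
  obtain ⟨k, rfl⟩ := mem_zpowers_iff.1 hx
  have h3 : b ^ (3 : ℤ) = 1 := by exact_mod_cast h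
  rw [zpow_eq_zpow_emod k h3]
  have : k % 3 = 0 ∨ k % 3 = 1 ∨ k % 3 = 2 := by omega
  rcases this with e | e | e <;> rw [e]
  exacts [.inl (zpow_zero _), .inr (.inl (zpow_one _)), .inr (.inr (zpow_two _))]

theorem nine_dvd {b c : G} (b3 : b ^ 3 = 1) (c3 : c ^ 3 = 1) (h : Commute b c) (n1 : b ≠ 1) (n2 : c ≠ 1) (n3 : b * c ≠ 1)
    (n4 : b * (b * c) ≠ 1) : 9 ∣ Nat.card G := by
  have : Fact (Nat.Prime 3) := ⟨by norm_num⟩
  have hc : ∀ (x : zpowers b) (y : zpowers c), Commute ((zpowers b).subtype x) ((zpowers c).subtype y) := by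
    rintro ⟨_, i, rfl⟩ ⟨_, j, rfl⟩
    exact h.zpow_zpow i j
  have b3' : b * (b * b) = 1 := by rw [← pow_three, b3]
  have c3' : c * (c * c) = 1 := by rw [← pow_three, c3]
  have := card_dvd_of_injective _ ((MonoidHom.noncommCoprod_injective _ _ hc).2 ⟨subtype_injective _, subtype_injective _, (disjoint_def.2
    fun {x} h1 h2 => by
      rw [range_subtype] at h1 h2
      rcases tri b3 h1 with e | e | e
      · exact e
      · rcases tri c3 h2 with e' | e' | e'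
        · exact e'
        · exact (n4 (by rw [← e', e, b3'])).elim
        · exact (n3 (by rw [← e, e', mul_assoc, c3'])).elim
      · rcases tri c3 h2 with e' | e' | e'
        · exact e'
        · exact (n3 (by rw [← e', e, b3'])).elim
        · exact (n4 (by rw [← mul_assoc, ← e, e', mul_assoc, c3'])).elim : Disjoint (zpowers b).subtype.range (zpowers c).subtype.range)⟩ :
    Function.Injective (MonoidHom.noncommCoprod _ _ hc))
  rwa [Nat.card_prod, Nat.card_zpowers, Nat.card_zpowers, orderOf_eq_prime b3 n1, orderOf_eq_prime c3 n2] at this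

/-- two commuting elements of order 3 which normalise `ι Q` -/
theorem nine_AG {ι : U5 →* G} (hι : Function.Injective ι) {b c : G} {β γ : MulAut Q5} (hβ : ∀ q : Q5, ι (β q) = b * ι q * b⁻¹)
    (hγ : ∀ q : Q5, ι (γ q) = c * ι q * c⁻¹) (b3 : b ^ 3 = 1) (c3 : c ^ 3 = 1) (h : b * c = c * b) {x : U5} (hx : x ∈ Q5)
    (n1 : b * ι x ≠ ι x * b) (n2 : c * ι x ≠ ι x * c) (n3 : b * c * ι x ≠ ι x * (b * c))
    (n4 : b * (b * c) * ι x ≠ ι x * (b * (b * c))) : 9 ∣ Nat.card (AG ι) := by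
  let R : MulAut Q5 → G → Prop := fun α g => ∀ q : Q5, ι (α q) = g * ι q * g⁻¹
  have Rm : ∀ {α α' g g'}, R α g → R α' g' → R (α * α') (g * g') := fun k k' q => by
    rw [MulAut.mul_apply, k, k']; group
  have Re : ∀ {α α' g}, R α g → R α' g → α = α' := fun k k' => MulEquiv.ext fun q => Subtype.ext (hι ((k q).trans (k' q).symm))
  have R1 : R 1 1 := fun q => by simp
  have Rn : ∀ {α g}, R α g → g * ι x ≠ ι x * g → α ≠ 1 := fun k n e => n (by
    have := k ⟨x, hx⟩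
    rw [e, eq_mul_inv_iff_mul_eq] at this
    exact this.symm)
  have R3 : ∀ {α g}, R α g → g ^ 3 = 1 → α ^ 3 = 1 := fun k e => Re (by
    have := Rm k (Rm k k)
    rwa [← pow_three, ← pow_three, e] at this) R1
  exact nine_dvd (b := (⟨β, b, hβ⟩ : AG ι)) (c := ⟨γ, c, hγ⟩) (Subtype.ext (R3 hβ b3)) (Subtype.ext (R3 hγ c3))
    (Subtype.ext (Re (Rm hβ hγ) (h ▸ Rm hγ hβ))) (fun e => Rn hβ n1 (congrArg Subtype.val e)) (fun e => Rn hγ n2 (congrArg Subtype.val e))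
    (fun e => Rn (Rm hβ hγ) n3 (congrArg Subtype.val e)) fun e => Rn (Rm hβ (Rm hβ hγ)) n4 (congrArg Subtype.val e)

theorem rel : Rel5 (X 1) (X 2) (X 3) (X 4) (X 5) (X 6) := by
  have h1 := k1.1
  have h2 := k2.1
  simp only [List.forall_mem_cons, CE.ev, List.map, List.prod_cons, List.prod_nil, mul_one] at h1 h2
  obtain ⟨a1, a2, a3, a4, a5, a6, a7, a8, a9, a10, a11, a12, a13, a14, -⟩ := h1
  obtain ⟨b1, b2, b3, b4, b5, b6, b7, -⟩ := h2
  constructor <;> (try simp only [pow_succ', pow_zero, mul_one, mul_assoc]) <;> assumption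

end LyM

open LyM in
/-- In Sims' presentation `Q = ⟨c1, …, c5⟩` (centre `c5`) is normalised by `a`, `b`, `z`; `S = Q⟨b⟩`. -/
theorem exists_Ly : ∃ ι : U5 →* Spor.Ly, Em ι ∧ 9 ∣ Nat.card (AG ι) := by
  obtain ⟨ι, e1, e2, e3, e4, e5, e6⟩ := rel.exists_hom
  have h1 := k1.2
  have h2 := k2.1
  have h3 := k3.1
  have h4 := k4.1
  have h5 := k5.1
  have h6 := k5.2
  simp only [List.forall_mem_cons, CE.ev, List.map, List.prod_cons, List.prod_nil, mul_one] at h1 h2 h3 h4 h5 h6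
  have hι := inj_of ι (e3 ▸ h1.1)
  have v0 : (0 : ZMod 5).val = 0 := rfl
  have v1 : (1 : ZMod 5).val = 1 := rfl
  have v2 : (2 : ZMod 5).val = 2 := rfl
  have v3 : (3 : ZMod 5).val = 3 := rfl
  have v4 : (4 : ZMod 5).val = 4 := rfl
  have w : ∀ u s v r w : ZMod 5, ι ⟨u, s, v, r, w, 0⟩ = X 1 ^ u.val * X 2 ^ s.val * X 3 ^ v.val * X 4 ^ r.val * X 5 ^ w.val :=
    fun u s v r w => by rw [hom_apply, e1, e2, e3, e4, e5, v0, pow_zero, mul_one]
  obtain ⟨β, -, hβ⟩ := exists_AG hι (n := X 7) (q1 := ⟨3, 1, 4, 3, 3, 0⟩) (q2 := ⟨4, 2, 4, 2, 0, 0⟩) (q4 := ⟨2, 4, 4, 1, 1, 0⟩)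
    (q5 := ⟨2, 2, 0, 2, 0, 0⟩) rfl rfl rfl rfl
    (by simpa only [e1, w, v0, v1, v2, v3, v4, pow_succ', pow_zero, mul_one, one_mul, mul_assoc] using h3.1)
    (by simpa only [e2, w, v0, v1, v2, v3, v4, pow_succ', pow_zero, mul_one, one_mul, mul_assoc] using h3.2.1)
    (by simpa only [e4, w, v0, v1, v2, v3, v4, pow_succ', pow_zero, mul_one, one_mul, mul_assoc] using h3.2.2.1)
    (by simpa only [e5, w, v0, v1, v2, v3, v4, pow_succ', pow_zero, mul_one, one_mul, mul_assoc] using h3.2.2.2.1)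
  obtain ⟨γ, -, hγ⟩ := exists_AG hι (n := X 8) (q1 := ⟨2, 0, 1, 3, 1, 0⟩) (q2 := ⟨0, 4, 2, 2, 2, 0⟩) (q4 := ⟨3, 1, 4, 4, 2, 0⟩)
    (q5 := ⟨3, 3, 4, 1, 1, 0⟩) rfl rfl rfl rfl
    (by simpa only [e1, w, v0, v1, v2, v3, v4, pow_succ', pow_zero, mul_one, one_mul, mul_assoc] using h4.1)
    (by simpa only [e2, w, v0, v1, v2, v3, v4, pow_succ', pow_zero, mul_one, one_mul, mul_assoc] using h4.2.1)
    (by simpa only [e4, w, v0, v1, v2, v3, v4, pow_succ', pow_zero, mul_one, one_mul, mul_assoc] using h4.2.2.1)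
    (by simpa only [e5, w, v0, v1, v2, v3, v4, pow_succ', pow_zero, mul_one, one_mul, mul_assoc] using h4.2.2.2.1)
  refine ⟨ι, ⟨hι, idx_of hι (by rw [Ly.card]; norm_num), X 9, ⟨0, 2, 0, 0, 0, 0⟩, fun k => absurd k.2.1 (by decide), ?_⟩,
    nine_AG hι hβ hγ ?_ ?_ h5.2.2.1 (x := y1 1) rfl ?_ ?_ ?_ ?_⟩
  · rw [mul_inv_eq_iff_eq_mul]
    simpa only [e3, w, v0, v2, pow_succ', pow_zero, mul_one, one_mul, mul_assoc] using h2.2.2.2.2.2.2.2.1
  · rw [pow_three]; exact h5.1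
  · rw [pow_three]; exact h5.2.1
  · rw [e1]; exact h6.1
  · rw [e1]; exact h6.2.1
  · rw [e1, mul_assoc]; exact h6.2.2.1
  · rw [e1, mul_assoc, mul_assoc]; exact h6.2.2.2.1

end CL.G2R
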