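/-
S5211, `q = 5`: a subgroup `5^(1+2) : 3` of the Thompson group.
-/
import Cfsg.Agent.FUS.G2R.Defs
import Cfsg.Agent.SPOR.ThG
import Cfsg.Agent.FUS.RV.Th

set_option autoImplicit false
set_option maxRecDepth 100000

namespace CL.G2R

open CL.Fus CL.G2F Subgroup Cfsg Cfsg.FusionSystem
open scoped commutatorElement

variable {G : Type*} [Group G]

theorem ex3_of {x a w c : G} (hc : a = c * x * c⁻¹) (hx : x = w ^ 3) (h5 : x ^ 5 = 1) (h1 : x ≠ 1) (ha : a * x = x * a)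
    (hab : a * (w * a * w⁻¹) = x ^ 3 * ((w * a * w⁻¹) * a))
    (hd : a * (w * a * w⁻¹) * (w * (w * a * w⁻¹) * w⁻¹) = x ^ 4) : Ex3 a (w * a * w⁻¹) (x ^ 3) (w ^ 10) := by
  have hw : Commute w x := hx ▸ (Commute.refl _).pow_right 3
  have ca : Commute a x := ha
  have cb : Commute (w * a * w⁻¹) x := (hw.mul_left ca).mul_left hw.inv_left
  have pa : a ^ 5 = 1 := by rw [hc, conj_pow, h5, mul_one, mul_inv_cancel]
  have pb : (w * a * w⁻¹) ^ 5 = 1 := by rw [conj_pow, pa, mul_one, mul_inv_cancel]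
  have x2 : (x ^ 3) ^ 2 = x := by rw [← pow_mul, show 3 * 2 = 5 + 1 from rfl, pow_succ, h5, one_mul]
  have ey : w ^ 10 = w * x ^ 3 := by rw [hx, ← pow_mul, ← pow_succ']
  have cj : ∀ u, Commute u x → w ^ 10 * u = w * u * w⁻¹ * w ^ 10 := fun u hu => by
    rw [ey, mul_assoc, ← (hu.pow_right 3).eq]; group
  have i4 : ∀ u : G, u ^ 5 = 1 → u ^ 4 = u⁻¹ := fun u hu => eq_inv_of_mul_eq_one_left ((pow_succ u 4).symm.trans hu)
  refine ⟨fun e => h1 (by rw [← x2, e, one_pow]), hab, (ca.pow_right 3).symm, (cb.pow_right 3).symm, pa, pb, by rw [← pow_mul, pow_mul', h5, one_pow],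
    by rw [← pow_mul, show 10 * 3 = 3 * 5 * 2 from rfl, pow_mul, pow_mul, ← hx, h5, one_pow], (hw.pow_pow 10 3).eq, cj a ca, 4, 4, 2, ?_⟩
  rw [cj _ cb, x2, i4 a pa, i4 _ pb, ← inv_mul_eq_iff_eq_mul.2 hd.symm, hab]
  generalize w * a * w⁻¹ = b
  group

open CL.CE CL.K CL.Net CL.ThG CL.RV.Th5 in
/-- the elements of `FUS/RV/Th` -/
theorem exists_ex_Th : ∃ a b c y : Spor.Th, Ex3 a b c y := by
  have eA : ev g Aw = ev g c * ev g X * (ev g c)⁻¹ := by rw [Aw, ev_append, ev_append, ev_ci]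
  have eB : ev g B = ev g w * ev g Aw * (ev g w)⁻¹ := by rw [B, ev_append, ev_append, ev_wi]
  have eD : ev g D = ev g w * ev g B * (ev g w)⁻¹ := by rw [D, ev_append, ev_append, ev_wi]
  have eX : ev g X = ev g w ^ 3 := by rw [X, ev_append, ev_append, pow_three, mul_assoc]
  have h5 := (map_eq_one_iff _ faithful.2).1
    ((rho_ev _ (by decide +kernel)).trans (run.1 (X ++ X ++ X ++ X ++ X) (by simp [R])))
  have h1 := rel (Aw ++ X) (X ++ Aw) (by simp [R]) (by decide +kernel)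
  have h2 := rel (Aw ++ B) (X ++ X ++ X ++ (B ++ Aw)) (by simp [R]) (by decide +kernel)
  have h3 := rel (Aw ++ B ++ D) (X ++ X ++ X ++ X) (by simp [R]) (by decide +kernel)
  simp only [ev_append] at h5 h1 h2 h3
  rw [eD, eB] at h3
  rw [eB] at h2
  refine ⟨_, _, _, _, ex3_of (x := ev g X) (w := ev g w) eA eX ?_ (fun e => ?_) h1 ?_ ?_⟩
  · rw [← h5]; simp only [pow_succ, pow_zero, one_mul]
  · exact run.2 X (by simp) (by rw [← rho_ev _ (by decide +kernel), e, map_one])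
  · rw [h2]; simp only [pow_succ, pow_zero, one_mul]
  · rw [h3]; simp only [pow_succ, pow_zero, one_mul]

end CL.G2R
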