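/-
S5211, `q = 5`: the fusion system of an embedding.
-/
import Cfsg.Agent.FUS.G2R.Hm
import Cfsg.Agent.FUS.G2.F5F

set_option autoImplicit false

namespace CL.G2R

open CL.Fus CL.G2F Subgroup Cfsg Cfsg.FusionSystem
open scoped commutatorElement

variable {G : Type*} [Group G]

/-- Proof.  Let `C = F.core ≠ ⊥`, normal in `F`, so normal in `U5`, `y3 1 ∈ C` (`y3_mem`).  `f` extends to an automorphism of `C`, so
`x = f (y3 1)` is central in `C`.  `x.t ≠ 0`: `c = ⁅x, y2 1⁆ ∈ C` has `c.r ≠ 0`, `⁅x, c⁆.w ≠ 0`.  `x.t = 0`, `x.u ≠ 0`: the triple commutator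
`c` of `x` with `y6 1` is in `sV` with `c.w = 6 x.u`, `br_V`.  `x.t = x.u = 0`, `x.s ≠ 0`: `c = ⁅y6 1, x⁆`, `bf x c = -6 s²` (`comm_Q`). -/
theorem core_bot {F : FusionSystem (⊤ : Subgroup U5)} {f : U5 → U5} (hf : Mor F sZ f) (hx : f (y3 1) ∉ sA) : F.core = ⊥ := by
  by_contra h0
  have hC := core_normal F
  have : F.core.Normal := ⟨fun n hn g => (stronglyClosed_iff.1 (sc_of_normal hC)).2 ⊤ _ (mor_cj F le_top (mem_top g)) n trivial hn⟩
  have hz : (y3 1 : U5) ∈ sZ := ⟨rfl, rfl, rfl, rfl, rfl⟩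
  obtain ⟨g, hg, e1, e2⟩ := normal_ext hC hf
  rw [← e1 hz] at hx
  have h1 : g (y3 1) ∈ F.core := e2 ▸ mem_img_of_mem g (y3_mem h0)
  have h2 : ∀ c ∈ F.core, ⁅g (y3 1), c⁆ = 1 := fun c hc => by
    obtain ⟨d, hd, rfl⟩ := (hg.mono le_sup_right).mem_img.1 (e2.symm ▸ hc)
    rw [← hg.isHomOn.map_commutator (mem_sup_left hz) (mem_sup_right hd),
      commutatorElement_eq_one_iff_mul_comm.2 (comm_Z d hz).symm, hg.map_one]
  generalize g (y3 1) = x at hx h1 h2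
  have h3 : ∀ k, ∀ c ∈ F.core, ⁅k, c⁆ ∈ F.core := fun k c hc => commutator_le_right ⊤ _ (commutator_mem_commutator trivial hc)
  have k6 : ∀ a : ZMod 5, 6 * a ^ 2 = 0 → a = 0 := by decide
  have ht : x.t = 0 := by
    have := congrArg U.w (h2 _ (h3 (y2 1) x h1))
    simp only [br_w, br_r, br_s, br_t, br_u] at this
    gus at this
    exact k6 _ (by linear_combination -this)
  have hu : x.u = 0 := by
    have := h2 _ (h3 (y6 1) _ (h3 (y6 1) _ (h3 (y6 1) x h1)))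
    rw [br_V _ (by simp only [mem_sV, br_r, br_s, br_t, br_u]; gus)] at this
    have := congrArg U.v this
    simp only [br_w, br_r, br_s, br_t, br_u, ht] at this
    gus at this
    exact k6 _ (by linear_combination this)
  have hs : x.s = 0 := by
    have := h2 _ (h3 (y6 1) x h1)
    rw [br_Q ht (br_t _ _)] at this
    have := congrArg U.v this
    simp only [bf, br_w, br_r, br_s, br_u, ht, hu] at this
    gus at this
    exact k6 _ (by linear_combination -this)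
  exact hx ⟨hu, hs, ht⟩

/-- `exists_sys`, `core_bot`, `mem_autGroup_iff` -/
theorem Em.sys [Finite G] {ι : U5 →* G} (h : Em ι) : ∃ E : FusionSystem (⊤ : Subgroup U5), E.IsRealizable 5 ∧ E.IsSaturated 5 ∧
    E.core = ⊥ ∧ E.autGroup Q5 = AG ι ∧ ∀ P f, Mor E P f ↔ ∃ g : G, ∀ x ∈ P, ι (f x) = cj g (ι x) := by
  obtain ⟨E, h1, h2, h3⟩ := exists_sys (p := 5) ι h.inj h.idx
  refine ⟨E, h1, h2, ?_, ?_, h3⟩
  · obtain ⟨g, x, hx, e⟩ := h.cf
    have hz : ∀ z ∈ (sZ : Subgroup U5), z = y3 1 ^ z.v.val := fun z hz => by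
      have := hom_apply (MonoidHom.id U5) z
      simpa [hz.1, hz.2.1, hz.2.2.1, hz.2.2.2.1, hz.2.2.2.2] using this
    refine core_bot (f := fun z => x ^ z.v.val) ((h3 _ _).2 ⟨g, fun z h => ?_⟩) ?_
    · rw [map_pow, ← e, conj_pow, ← map_pow, ← hz z h, cj]
    · simpa [ZMod.val_one] using hx
  · ext β
    rw [mem_autGroup_iff le_top, h3, mem_AG]
    exact exists_congr fun g => ⟨fun k q => by rw [← autFun_coe, k q q.2, cj], fun k q hq => by
      rw [autFun_of_mem β hq, k, cj]⟩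

theorem Sys.card_inn : Nat.card (Inn Q5) = 625 := by
  have key : ∀ a ∈ Q5, ∀ x ∈ Q5, a * x * a⁻¹ = y3 (bf a x) * x := fun a ha x hx => by
    rw [← br_Q ha hx, commutatorElement_def, inv_mul_cancel_right]
  have e : W (ZMod 5) ≃ ZMod 5 × ZMod 5 × ZMod 5 × ZMod 5 :=
    ⟨fun v => (v.u, v.s, v.r, v.w), fun p => ⟨p.1, p.2.1, p.2.2.1, p.2.2.2⟩, fun _ => rfl, fun _ => rfl⟩
  refine (Nat.card_eq_of_bijective (fun v : W (ZMod 5) => (⟨MulAut.conj ⟨lW v, lW_mem v⟩, _, rfl⟩ : Inn Q5))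
    ⟨fun v w k => ?_, ?_⟩).symm.trans (by rw [Nat.card_congr e]; simp)
  · have h : ∀ x ∈ Q5, bf (lW v) x = bf (lW w) x := fun x hx => by
      have : lW v * x * (lW v)⁻¹ = lW w * x * (lW w)⁻¹ :=
        congrArg (fun α : Inn Q5 => ((α.1 ⟨x, hx⟩ : Q5) : U5)) k
      rw [key _ (lW_mem v) x hx, key _ (lW_mem w) x hx, mul_left_inj] at this
      exact congrArg U.v this
    have h1 := h (y1 1) rfl
    have h2 := h (y2 1) rfl
    have h4 := h (y4 1) rfl
    have h5 := h (y5 1) rfl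
    have k3 : (3 : ZMod 5) ≠ 0 := by decide
    simp only [bf, lW_u, lW_s, lW_r, lW_w] at h1 h2 h4 h5
    gus at h1 h2 h4 h5
    exact W.ext h5 (mul_left_cancel₀ k3 (neg_injective h4)) (mul_left_cancel₀ k3 h2) (neg_injective h1)
  · rintro ⟨_, g, rfl⟩
    exact ⟨pW g, Subtype.ext (MulEquiv.ext fun x => Subtype.ext ((key _ (lW_mem _) x x.2).trans (key _ g.2 x x.2).symm))⟩

/-- `F.autGroup Q →* MulAut (W _)` (`exists_XW`) has range `XW F` and kernel `Inn Q` (`F5.inn5`, `inn_le_autGroup`), of order `5^5 / 5` -/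
theorem card_aut (F : FusionSystem (⊤ : Subgroup U5)) : Nat.card (F.autGroup Q5) = 625 * Nat.card (XW F) := by
  choose x hx e using fun α : F.autGroup Q5 => exists_XW (mor_autFun le_top α.2) fun g hg => autFun_mem α.1 hg
  let π : F.autGroup Q5 →* MulAut (W (ZMod 5)) := MonoidHom.mk' x fun α β => MulEquiv.ext fun v => by
    rw [← pW_lW v, ← e _ _ (lW_mem v), MulAut.mul_apply, ← e _ _ (lW_mem v), ← e _ _ (autFun_mem _ (lW_mem v)), Subgroup.coe_mul,
      autFun_mul _ _ (lW_mem v)]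
  have h1 : π.range = XW F := le_antisymm (fun _ ⟨α, k⟩ => k ▸ hx α) fun y ⟨f, a, b, c⟩ => by
    obtain ⟨α, hα, k⟩ := a.exists_aut (a.img_eq_self b)
    exact ⟨⟨α, hα⟩, MulEquiv.ext fun v => by
      rw [← pW_lW v, ← c _ (lW_mem v), ← k (lW_mem v)]; exact (e ⟨α, hα⟩ _ (lW_mem v)).symm⟩
  have h2 : π.ker = (Inn Q5).subgroupOf _ := Subgroup.ext fun α => by
    rw [MonoidHom.mem_ker, mem_subgroupOf, mem_inn_iff]
    refine ⟨fun k => F5.inn5 (mor_autFun le_top α.2).isHomOn (fun g hg => autFun_mem _ hg) fun g hg => by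
      rw [e α g hg, show x α = 1 from k]; rfl, fun ⟨u, hu, k⟩ => MulEquiv.ext fun v => ?_⟩
    rw [← pW_lW v]
    refine (e α _ (lW_mem v)).symm.trans ?_
    rw [k (lW_mem v), pW_cj _ (lW_mem v), show u.t = 0 from hu, tt_zero]
  rw [← h1, ← Sys.card_inn, ← Nat.card_congr (subgroupOfEquivOfLe (inn_le_autGroup F le_top)).toEquiv, ← h2, ← index_ker,
    card_mul_index]

theorem Em.cls [Finite G] {ι : U5 →* G} (h : Em ι) (c : Cls5) : ∃ n ∈ [480, 640, 1280, 2880, 7680], Nat.card (AG ι) = 625 * n := by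
  obtain ⟨E, -, h2, h3, h4, -⟩ := h.sys
  exact ⟨_, c E h2 h3, h4 ▸ card_aut E⟩

theorem Em.real [Finite G] {ι : U5 →* G} (h : Em ι) {n : ℕ} (hn : Nat.card (AG ι) = 625 * n) : Real5 n := by
  obtain ⟨E, h1, h2, h3, h4, -⟩ := h.sys
  have := card_aut E
  exact ⟨E, h1, h2, h3, by rw [h4, hn] at this; omega⟩

end CL.G2R
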