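/-
S5211, `q = 5`: an automorphism of order 3 of `Q`.
-/
import Cfsg.Agent.FUS.G2R.Sys

set_option autoImplicit false

namespace CL.G2R

open CL.Fus CL.G2F Subgroup Cfsg Cfsg.FusionSystem
open scoped commutatorElement

variable {G : Type*} [Group G]

theorem moveZ {F : FusionSystem (⊤ : Subgroup U5)} (hF : F.IsSaturated 5) (hE : F.IsEssential 5 Q') :
    ∃ f, Mor F Q' f ∧ (∀ x ∈ Q', f x ∈ Q') ∧ f (y3 1) ∉ sZ := by
  obtain ⟨n, a, b, -, c⟩ := exists_ns hF hE (s := 1) one_ne_zero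
  exact ⟨n, a, b, fun k => by simpa [k.2.2.2.1] using (c (y3 1) ⟨rfl, rfl, rfl, rfl⟩).2⟩

theorem mem_sV_of {a b c : U5} (ab : a * b = c * (b * a)) (ca : c * a = a * c) (cb : c * b = b * c) : c ∈ sV := by
  have e : c = ⁅a, b⁆ := by rw [commutatorElement_def, ab]; group
  have u : c.u = 0 := e ▸ br_u a b
  have t : c.t = 0 := e ▸ br_t a b
  have k : ∀ x, c * x = x * c → c.s * x.t = 0 ∧ c.r * x.t = 0 := fun x h => by
    have h := commutatorElement_eq_one_iff_mul_comm.2 h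
    have h1 := br_r c x
    have h2 := br_w c x
    rw [h, u, t] at h1 h2
    simp only [U.one_r, U.one_w] at h1 h2
    have h3 : c.s * x.t = 0 := mul_left_cancel₀ (two_ne (K := ZMod 5)) (by linear_combination h1)
    exact ⟨h3, mul_left_cancel₀ (three_ne (K := ZMod 5)) (by linear_combination h2 - 3 * x.t * h3)⟩
  by_cases h : a.t = 0 ∧ b.t = 0
  · rw [e, br_Q h.1 h.2]; exact ⟨rfl, rfl, rfl, rfl⟩
  rcases not_and_or.1 h with h | h
  exacts [⟨u, by simpa [h] using (k a ca).1, by simpa [h] using (k a ca).2, t⟩, ⟨u, by simpa [h] using (k b cb).1, by simpa [h] using (k b cb).2, t⟩]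

theorem Em.conj_V [Finite G] (he : EssL 5 (ZMod 5)) {ι : U5 →* G} (h : Em ι) {c : U5} (hc : c ∈ sV) (h1 : c ≠ 1) :
    ∃ k : ZMod 5, k ≠ 0 ∧ IsConj (ι c) (ι (y3 k)) := by
  obtain ⟨a1, a2, a3, a4⟩ := hc
  by_cases w : c.w = 0
  · have e : c = y3 c.v := U.ext a1 a2 rfl a3 w a4
    exact ⟨c.v, fun k => h1 (U.ext a1 a2 k a3 w a4), e ▸ IsConj.refl _⟩
  obtain ⟨E, -, s, k, -, m⟩ := h.sys
  obtain ⟨n, a, -, b, d⟩ := exists_ns s (both_of_core he s k).2 (s := 1) one_ne_zero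
  obtain ⟨g, hg⟩ := (m _ _).1 a
  have b := b (y3 c.w) ⟨rfl, rfl, rfl⟩
  have d := d (y3 c.w) ⟨rfl, rfl, rfl, rfl⟩
  have e : n (y3 c.w) = y5 c.w := U.ext b.1.1 b.1.2.1 (by simpa using d.1) b.2 (by simpa using d.2) b.1.2.2
  have e' : c = cj (y1 (c.v / c.w)) (y5 c.w) := by gus; simp [*]
  refine ⟨c.w, w, IsConj.symm (isConj_iff.2 ⟨ι (y1 (c.v / c.w)) * g, ?_⟩)⟩
  conv_rhs => rw [e', cj, map_mul, map_mul, map_inv, ← e, hg _ rfl, cj]
  group

theorem exists_normQ [Finite G] (he : EssL 5 (ZMod 5)) {ι : U5 →* G} (hι : Function.Injective ι) (idx : ¬ 5 ∣ ι.range.index)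
    (hz : ∀ g : G, g * ι (y3 1) = ι (y3 1) * g) {P : Subgroup U5} {y : G} {f : U5 → U5} (hf : ∀ x ∈ P, ι (f x) = cj y (ι x)) :
    ∃ (n : G) (f' : U5 → U5), (∀ x ∈ P ⊔ Q5, ι (f' x) = cj n (ι x)) ∧ (∀ x ∈ P, f' x = f x) ∧ ∀ x ∈ Q5, f' x ∈ Q5 := by
  obtain ⟨E, -, s, m⟩ := exists_sys (p := 5) ι hι idx
  have N : E.IsNormal Q5 := normal_of_essential isPGroup_top s fun R hR => by
    rcases hR with rfl | hR
    · refine ⟨le_top, fun g hg _ => (hg.mono le_top).img_eq_self fun x hx => ?_⟩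
      obtain ⟨α, e⟩ := exists_aut_top hg
      exact e x ▸ aut_mem_Q α hx
    rcases he E s R hR with rfl | rfl
    · exact ⟨le_rfl, fun _ _ e => e⟩
    obtain ⟨f, a, -, b⟩ := moveZ s hR
    obtain ⟨g, e⟩ := (m _ _).1 a
    rw [hι ((e (y3 1) rfl).trans (by rw [cj, hz, mul_inv_cancel_right]))] at b
    exact (b ⟨rfl, rfl, rfl, rfl, rfl⟩).elim
  obtain ⟨g, a, b, c⟩ := (isNormal_iff.1 N).2 P f ((m _ _).2 ⟨y, hf⟩)
  obtain ⟨n, e⟩ := (m _ _).1 a
  exact ⟨n, g, e, b, img_le_iff.1 c.le⟩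

namespace Thr

theorem pg [Finite G] {a b c y : G} (T : Ex3 a b c y) : IsPGroup 5 (zpowers a ⊔ (zpowers b ⊔ zpowers c) : Subgroup G) := by
  have z : ∀ x : G, x ^ 5 = 1 → IsPGroup 5 (zpowers x) := fun x e => by
    rintro ⟨_, k, rfl⟩
    exact ⟨1, Subtype.ext (show (x ^ k) ^ 5 ^ 1 = 1 by rw [pow_one, ← zpow_natCast, ← zpow_mul, mul_comm, zpow_mul, zpow_natCast, e, one_zpow])⟩
  have n : ∀ (x : G) (K : Subgroup G), K.map (MulAut.conj x).toMonoidHom ≤ K → zpowers x ≤ normalizer (K : Set G) := fun x K e =>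
    (zpowers_le.2 (mem_normalizer_fintype fun n hn => e (mem_map_of_mem _ hn)))
  have c1 : ∀ x, c * x = x * c → (MulAut.conj x).toMonoidHom c = c := fun x e => by simp [← e]
  refine (z a T.pa).to_sup_of_normal_right' ((z b T.pb).to_sup_of_normal_right' (z c T.pc) (n _ _ ?_)) (n _ _ ?_)
  · rw [MonoidHom.map_zpowers, c1 b T.cb]
  · rw [Subgroup.map_sup, MonoidHom.map_zpowers, MonoidHom.map_zpowers, c1 a T.ca, show (MulAut.conj a).toMonoidHom b = c * b by simp [T.ab, mul_assoc]]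
    exact sup_le (zpowers_le.2 (mul_mem (mem_sup_right (mem_zpowers c)) (mem_sup_left (mem_zpowers b)))) le_sup_right

theorem into [Finite G] {ι : U5 →* G} (idx : ¬ 5 ∣ ι.range.index) {a b c y : G} (T : Ex3 a b c y) :
    ∃ g a' b' c', ι a' = MulAut.conj g a ∧ ι b' = MulAut.conj g b ∧ ι c' = MulAut.conj g c := by
  obtain ⟨R, hR⟩ := (pg T).exists_le_sylow
  let S : Sylow 5 G := IsPGroup.toSylow (P := ι.range) ((isPGroup_U 5).of_surjective _ ι.rangeRestrict_surjective) idx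
  obtain ⟨g, e⟩ := MulAction.exists_smul_eq G R S
  have k : ∀ x ∈ R, ∃ x', ι x' = MulAut.conj g x := fun x hx => by
    have : MulAut.conj g • x ∈ g • R := smul_mem_pointwise_smul x (MulAut.conj g) _ hx
    rwa [e] at this
  obtain ⟨a', ha⟩ := k a (hR (mem_sup_left (mem_zpowers a)))
  obtain ⟨b', hb⟩ := k b (hR (mem_sup_right (mem_sup_left (mem_zpowers b))))
  obtain ⟨c', hc⟩ := k c (hR (mem_sup_right (mem_sup_right (mem_zpowers c))))
  exact ⟨g, a', b', c', ha, hb, hc⟩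

theorem cenQ {z : U5} (h : ∀ q ∈ Q5, z * q = q * z) : z ∈ sZ := by
  have t : z.t = 0 := by
    have := br_r z (y2 1)
    rw [commutatorElement_eq_one_iff_mul_comm.2 (h _ rfl)] at this
    simpa [two_ne (K := ZMod 5)] using this.symm
  have := bW_nondeg three_ne (y := pW z) fun x => (comm_Q t (lW_mem x)).1 (h _ rfl)
  simpa using (pW_eq_iff t (one_mem _)).1 this

theorem main [Finite G] (he : EssL 5 (ZMod 5)) {ι : U5 →* G} (hι : Function.Injective ι) (idx : ¬ 5 ∣ ι.range.index)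
    (hz : ∀ g : G, g * ι (y3 1) = ι (y3 1) * g) {a b c : U5} {y : G} (T : Ex3 (ι a) (ι b) (ι c) y) :
    ∃ β ∈ AG ι, ∀ m, β ^ m = 1 → 3 ∣ m := by
  let P : Subgroup U5 := closure {a, b, c}
  have m1 : a ∈ P := subset_closure (by simp)
  have m2 : b ∈ P := subset_closure (by simp)
  have m3 : c ∈ P := subset_closure (by simp)
  have ya : cj y (ι a) = ι b := by rw [cj, T.ya, mul_inv_cancel_right]
  have k : ∀ x ∈ P, ∃ x' ∈ P, ι x' = cj y (ι x) := fun x hx => by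
    induction hx using closure_induction with
    | mem x hx =>
      rcases hx with rfl | rfl | rfl
      · exact ⟨b, m2, ya.symm⟩
      · obtain ⟨i, j, k, e⟩ := T.yb
        exact ⟨_, mul_mem (mul_mem (pow_mem m1 i) (pow_mem m2 j)) (pow_mem m3 k), by rw [cj, e]; simp⟩
      · exact ⟨_, m3, by rw [cj, T.yc, mul_inv_cancel_right]⟩
    | one => exact ⟨1, one_mem _, by simp [cj]⟩
    | mul x x' _ _ h h' =>
      obtain ⟨u, a, e⟩ := h
      obtain ⟨u', a', e'⟩ := h'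
      exact ⟨_, mul_mem a a', by simp [e, e', cj, mul_assoc]⟩
    | inv x _ h =>
      obtain ⟨u, a, e⟩ := h
      exact ⟨_, inv_mem a, by simp [e, cj, mul_assoc]⟩
  choose! f f1 f2 using k
  obtain ⟨n, g, e1, e2, e3⟩ := exists_normQ he hι idx hz f2
  have q : ∀ x ∈ Q5, n * ι x = ι (g x) * n := fun x hx => by rw [e1 x (mem_sup_right hx), cj, inv_mul_cancel_right]
  obtain ⟨β, hβ, e⟩ := exists_AG hι (e3 (y1 1) rfl) (e3 (y2 1) rfl) (e3 (y4 1) rfl) (e3 (y5 1) rfl) (q _ rfl) (q _ rfl) (q _ rfl) (q _ rfl)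
  refine ⟨β, hβ, fun m hm => by_contra fun h3 => T.c1 ?_⟩
  have p1 : ∀ i : ℕ, ∀ x : Q5, ι ((β ^ i) x) = n ^ i * ι x * (n ^ i)⁻¹ := fun i x => by
    induction i with
    | zero => simp
    | succ i ih => rw [pow_succ', MulAut.mul_apply, e, ih, pow_succ']; group
  have p2 : ∀ i : ℕ, ∀ x ∈ P, cj (n ^ i) (ι x) = cj (y ^ i) (ι x) := fun i => by
    induction i with
    | zero => simp
    | succ i ih =>
      intro x hx
      have h1 : ∀ u : G, cj (u ^ (i + 1)) (ι x) = cj (u ^ i) (cj u (ι x)) := fun u => by simp [cj, pow_succ, mul_assoc]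
      rw [h1, h1, ← e1 x (mem_sup_left hx), e2 x hx, ih _ (f1 x hx), f2 x hx]
  obtain ⟨t, ht⟩ : ∃ t, m * m = 3 * t + 1 := ⟨m * m / 3, by
    have := Nat.mul_mod m m 3
    have : m % 3 = 1 ∨ m % 3 = 2 := by omega
    rcases this with h | h <;> rw [h] at this <;> omega⟩
  have w1 := p2 (m * m) a m1
  rw [show y ^ (m * m) = y by rw [ht, pow_succ, pow_mul, T.py, one_pow, one_mul], ya] at w1
  have w2 : ∀ x ∈ Q5, ι x = n ^ (m * m) * ι x * (n ^ (m * m))⁻¹ := fun x hx => by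
    simpa [pow_mul, hm] using p1 (m * m) ⟨x, hx⟩
  generalize n ^ (m * m) = w at w1 w2
  have z : a⁻¹ * b ∈ sZ := cenQ fun x hx => hι (by
    have h1 := w2 _ (Normal.conj_mem inferInstance x hx a)
    have h2 : w⁻¹ * ι x * w = ι x := by
      conv_lhs => rw [w2 x hx]
      group
    simp only [map_mul, map_inv] at h1 ⊢
    have h3 : ι b * ι x * (ι b)⁻¹ = ι a * ι x * (ι a)⁻¹ := by
      rw [h1, ← w1, cj]
      conv_rhs => rw [← h2]
      group
    calc _ = (ι a)⁻¹ * (ι b * ι x * (ι b)⁻¹) * ι b := by group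
      _ = _ := by rw [h3]; group)
  have := congrArg ι (comm_Z a z)
  simp only [map_mul, map_inv, mul_inv_cancel_left] at this
  have h4 : ι a * ι b = ι b * ι a := by
    conv_lhs => rw [this]
    group
  have h5 := T.ab
  rwa [h4, right_eq_mul] at h5

end Thr

open Thr in
theorem Em.three_dvd [Finite G] (he : EssL 5 (ZMod 5)) {ι : U5 →* G} (h : Em ι) {a b c y : G} (T : Ex3 a b c y) :
    3 ∣ Nat.card (AG ι) := by
  obtain ⟨g, a', b', c', e1, e2, e3⟩ := into h.idx T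
  have T1 : Ex3 (ι a') (ι b') (ι c') _ := e1 ▸ e2 ▸ e3 ▸ T.map (MulAut.conj g).toMonoidHom (MulAut.conj g).injective
  obtain ⟨k, k0, hk⟩ := h.conj_V he (mem_sV_of (a := a') (b := b') (c := c') (h.inj (by simpa using T1.ab)) (h.inj (by simpa using T1.ca))
    (h.inj (by simpa using T1.cb))) fun e => T1.c1 (by rw [e, map_one])
  obtain ⟨g', hg⟩ := isConj_iff.1 hk
  obtain ⟨a, b, y, T2⟩ : ∃ a b y, Ex3 a b (ι (y3 k)) y := ⟨_, _, _, (show (MulAut.conj g').toMonoidHom (ι c') = _ from hg) ▸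
    T1.map (MulAut.conj g').toMonoidHom (MulAut.conj g').injective⟩
  let H := centralizer {ι (y3 k)}
  have mH : ∀ x, ι (y3 k) * x = x * ι (y3 k) → x ∈ H := fun x e => mem_centralizer_singleton_iff.2 e.symm
  have iH : ∀ x, ι x ∈ H := fun x => mH _ (by rw [← map_mul, ← comm_Z x (h := y3 k) ⟨rfl, rfl, rfl, rfl, rfl⟩, map_mul])
  let κ : U5 →* H := ι.codRestrict H iH
  have hκ : Function.Injective κ := fun x x' e => h.inj (congrArg Subtype.val e)
  have idx : ¬ 5 ∣ κ.range.index := fun e => h.idx (e.trans (by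
    have : κ.range = ι.range.subgroupOf H := by ext x; simp [κ, mem_subgroupOf, Subtype.ext_iff]
    rw [this]
    exact relIndex_dvd_index_of_le (by rintro _ ⟨x, rfl⟩; exact iH x)))
  have T3 : Ex3 (⟨a, mH a T2.ca⟩ : H) ⟨b, mH b T2.cb⟩ (κ (y3 k)) ⟨y, mH y T2.yc.symm⟩ :=
    ⟨fun e => T2.c1 (congrArg Subtype.val e), Subtype.ext T2.ab, Subtype.ext T2.ca, Subtype.ext T2.cb, Subtype.ext T2.pa, Subtype.ext T2.pb,
      Subtype.ext T2.pc, Subtype.ext T2.py, Subtype.ext T2.yc, Subtype.ext T2.ya, let ⟨i, j, l, e⟩ := T2.yb; ⟨i, j, l, Subtype.ext e⟩⟩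
  obtain ⟨g, a', b', c', e1, e2, e3⟩ := into idx T3
  have T4 : Ex3 (κ a') (κ b') (κ c') _ := e1 ▸ e2 ▸ e3 ▸ T3.map (MulAut.conj g).toMonoidHom (MulAut.conj g).injective
  have yp : ∀ n : ℕ, (y3 k : U5) ^ n = y3 (n * k) := fun n => by
    induction n with
    | zero => ext <;> simp
    | succ n ih => rw [pow_succ, ih]; gus; push_cast; ring
  obtain ⟨β, hβ, e⟩ := main he hκ idx (fun g => by
    have : Commute g (κ (y3 k)) := Subtype.ext (mem_centralizer_singleton_iff.1 g.2)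
    rw [← inv_mul_cancel₀ k0, ← ZMod.natCast_zmod_val k⁻¹, ← yp, map_pow]
    exact this.pow_right _) T4
  exact e _ (congrArg Subtype.val (pow_card_eq_one' (x := (⟨β, AG_le_comp κ H.subtype hβ⟩ : AG ι))))

end CL.G2R
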